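import Cfsg.Agent.Lib.PSolvable.Core
import Cfsg.Agent.Lib.Coprime.Action
import Cfsg.Agent.Lib.Fpf.OrderThree

/-!
A p-subgroup acting semiregularly on a minimal p'-group, and the degree of a faithful
representation of the latter.
-/

set_option autoImplicit false
set_option linter.style.haveILetI false

open scoped commutatorElement

namespace CfsgLib.TIDegree

variable {G : Type*} [Group G] [Finite G]

/-- In a `p`-solvable group without normal `p`-subgroups the `p'`-core contains its centralizer. -/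
theorem centralizer_pPrimeCore_le {p : ℕ} [Fact p.Prime] (hsol : Cfsg.IsPSolvable p G)
    (hO : Cfsg.pCore p G = ⊥) :
    Subgroup.centralizer (Cfsg.pPrimeCore p G : Set G) ≤ Cfsg.pPrimeCore p G := by
  haveI := Transfer.pPrimeCore_normal p G
  set K := Cfsg.pPrimeCore p G with hK
  set C := Subgroup.centralizer (K : Set G) with hC
  obtain ⟨n, H, h0, hlast, hmono, hn, hfac⟩ := hsol
  suffices ∀ i, C ⊓ H i ≤ K by
    have h := this (Fin.last n)
    rwa [hlast, inf_top_eq] at h
  intro i
  induction i using Fin.induction with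
  | zero => rw [h0, inf_bot_eq]; exact bot_le
  | succ i ih =>
    haveI := hn i.succ
    haveI := hn i.castSucc
    set N := C ⊓ H i.succ with hN
    haveI : N.Normal := Subgroup.normal_inf_normal _ _
    have hdvd : K.relIndex N ∣ (H i.castSucc).relIndex (H i.succ) := by
      have h1 : K.relIndex N ∣ (C ⊓ H i.castSucc).relIndex N :=
        Subgroup.relIndex_dvd_of_le_left _ ih
      refine h1.trans ?_
      rw [hN, inf_comm C, inf_comm C]
      exact CfsgLib.PSolvable.relIndex_inf_dvd _ _ _ (hmono i.castSucc_le_succ)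
    have hmul := CfsgLib.Coprime.relIndex_mul_card_inf K N
    have hKN : (Nat.card (K ⊓ N : Subgroup G)).Coprime p :=
      (Transfer.pPrimeCore_coprime p).coprime_dvd_left (Subgroup.card_dvd_of_le inf_le_left)
    rcases hfac i with ⟨m, hm⟩ | hc
    · obtain ⟨Q⟩ : Nonempty (Sylow p N) := inferInstance
      have hKc : ∀ z ∈ (K ⊓ N).subgroupOf N, ∀ w : N, z * w = w * z := fun z hz w =>
        Subtype.ext (Subgroup.mem_centralizer_iff.mp (Subgroup.mem_inf.mp w.2).1 z.1
          (Subgroup.mem_inf.mp (Subgroup.mem_subgroupOf.mp hz)).1)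
      have hQn : (Q : Subgroup N).Normal := by
        rw [← Subgroup.normalizer_eq_top_iff, ← top_le_iff]
        have hsup : (K ⊓ N).subgroupOf N ⊔ (Q : Subgroup N) = ⊤ := by
          refine Subgroup.eq_top_of_card_eq _ (Nat.dvd_antisymm (Subgroup.card_subgroup_dvd_card _) ?_)
          have h1 := Subgroup.card_dvd_of_le (le_sup_left : (K ⊓ N).subgroupOf N ≤ _ ⊔ (Q : Subgroup N))
          have h2 := Subgroup.card_dvd_of_le (le_sup_right : (Q : Subgroup N) ≤ (K ⊓ N).subgroupOf N ⊔ _)
          rw [Nat.card_congr (Subgroup.subgroupOfEquivOfLe (inf_le_right : K ⊓ N ≤ N)).toEquiv] at h1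
          obtain ⟨k, -, hk⟩ := (Nat.dvd_prime_pow Fact.out).mp (hm ▸ hdvd)
          have h3 : p ^ k ∣ Nat.card (Q : Subgroup N) := Q.pow_dvd_card_of_pow_dvd_card
            (by rw [← hmul, hk]; exact dvd_mul_right _ _)
          rw [← hmul, hk]
          exact (hKN.symm.pow_left k).mul_dvd_of_dvd_of_dvd (h3.trans h2) h1
        rw [← hsup]
        exact sup_le (fun z hz => Subgroup.mem_normalizer_iff.mpr fun w => by
          rw [hKc z hz w, mul_inv_cancel_right]) Subgroup.le_normalizer
      haveI := hQn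
      haveI : (Q : Subgroup N).Characteristic := Q.characteristic_of_normal hQn
      have hbot : (Q : Subgroup N).map N.subtype = ⊥ := le_bot_iff.mp (hO ▸
        CfsgLib.Fitting.le_pCore (CfsgLib.PSolvable.normal_map_of_characteristic N _) (Q.2.map _))
      have hQbot : (Q : Subgroup N) = ⊥ :=
        (Subgroup.map_eq_bot_iff_of_injective _ N.subtype_injective).mp hbot
      have hcop : (Nat.card N).Coprime p := by
        refine (Nat.Prime.coprime_iff_not_dvd Fact.out).mpr (fun h => ?_) |>.symm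
        exact Q.ne_bot_of_dvd_card h hQbot
      exact Transfer.le_pPrimeCore inferInstance hcop
    · refine Transfer.le_pPrimeCore inferInstance ?_
      rw [← hmul]
      exact Nat.Coprime.mul_left (hc.coprime_dvd_left hdvd) hKN

/-- A minimal group acted on nontrivially by `P`: the degree of a faithful representation. -/
theorem card_lt_finrank_sq {P R : Subgroup G} (hP1 : P ≠ ⊥)
    (hn : P ≤ Subgroup.normalizer (R : Set G)) (hcop : (Nat.card P).Coprime (Nat.card R))
    (hsolv : Group.IsSolvable R) (hne : ¬ P ≤ Subgroup.centralizer (R : Set G))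
    (hmin : ∀ S : Subgroup G, S ≤ R → S ≠ R → P ≤ Subgroup.normalizer (S : Set G) →
      P ≤ Subgroup.centralizer (S : Set G))
    (hsemi : ∀ x ∈ P, x ≠ 1 → ∀ r ∈ R, Commute x r → ∀ u ∈ P, Commute u r)
    {n : ℕ} (ρ : G →* Module.End ℂ (Fin n → ℂ)) (hinj : ∀ r ∈ R, ρ r = 1 → r = 1) :
    Nat.card P < n ^ 2 := by
  classical
  have hRc : ∀ u ∈ P, ∀ r ∈ R, u * r * u⁻¹ ∈ R := fun u hu r hr =>
    (Subgroup.mem_normalizer_iff.mp (hn hu) r).mp hr
  have hfix : ∀ {u r : G}, Commute u r → u * r * u⁻¹ = r := fun h => by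
    rw [h.eq, mul_inv_cancel_right]
  -- an element moved by a fixed amount is fixed
  have hmoved : ∀ x ∈ P, ∀ r ∈ R, ∀ z ∈ R, x * r * x⁻¹ = r * z → Commute x z → z = 1 := by
    intro x hx r hr z hz h hc
    have hi : ∀ i : ℕ, x ^ i * r * (x ^ i)⁻¹ = r * z ^ i := by
      intro i
      induction i with
      | zero => simp
      | succ i ih =>
        have hzi : x * z ^ i * x⁻¹ = z ^ i := hfix (hc.pow_right i)
        rw [pow_succ' x i, show x * x ^ i * r * (x * x ^ i)⁻¹ = x * (x ^ i * r * (x ^ i)⁻¹) * x⁻¹ by group,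
          ih, show x * (r * z ^ i) * x⁻¹ = (x * r * x⁻¹) * (x * z ^ i * x⁻¹) by group, hzi, h, mul_assoc,
          ← pow_succ']
    have h1 := hi (orderOf x)
    rw [pow_orderOf_eq_one, inv_one, one_mul, mul_one, left_eq_mul] at h1
    refine orderOf_eq_one_iff.mp (Nat.eq_one_of_dvd_coprimes hcop ?_ (Subgroup.orderOf_dvd_natCard R hz))
    exact (orderOf_dvd_of_pow_eq_one h1).trans (Subgroup.orderOf_dvd_natCard P hx)
  set gens := {g : G | ∃ r ∈ R, ∃ u ∈ P, g = r⁻¹ * (u * r * u⁻¹)} with hgens
  have hgen : Subgroup.closure gens = R := by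
    by_contra hne'
    have hle : Subgroup.closure gens ≤ R := by
      rw [Subgroup.closure_le]
      rintro _ ⟨r, hr, u, hu, rfl⟩
      exact mul_mem (inv_mem hr) (hRc u hu r hr)
    have hcl : ∀ v ∈ P, ∀ g ∈ Subgroup.closure gens, v * g * v⁻¹ ∈ Subgroup.closure gens := by
      intro v hv g hg
      suffices Subgroup.closure gens ≤ (Subgroup.closure gens).comap (MulAut.conj v).toMonoidHom from this hg
      refine (Subgroup.closure_le _).mpr ?_
      rintro _ ⟨r, hr, u, hu, rfl⟩
      refine Subgroup.subset_closure ⟨v * r * v⁻¹, hRc v hv r hr, v * u * v⁻¹,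
        mul_mem (mul_mem hv hu) (inv_mem hv), ?_⟩
      show v * (r⁻¹ * (u * r * u⁻¹)) * v⁻¹ = _
      group
    have hnorm : P ≤ Subgroup.normalizer (Subgroup.closure gens : Set G) := fun v hv => by
      rw [Subgroup.mem_normalizer_iff]
      refine fun g => ⟨hcl v hv g, fun hg => ?_⟩
      have := hcl v⁻¹ (inv_mem hv) _ hg
      simpa [mul_assoc] using this
    have hz := hmin _ hle hne' hnorm
    refine hne fun x hx => Subgroup.mem_centralizer_iff.mpr fun r hr => ?_
    have hz' : x⁻¹⁻¹ = x := inv_inv x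
    have hmem : r⁻¹ * (x * r * x⁻¹) ∈ Subgroup.closure gens :=
      Subgroup.subset_closure ⟨r, hr, x, hx, rfl⟩
    have h1 := hmoved x hx r hr _ (hle hmem) (mul_inv_cancel_left r (x * r * x⁻¹)).symm
      (Subgroup.mem_centralizer_iff.mp (hz hx) _ hmem).symm
    rw [inv_mul_eq_one] at h1
    conv_lhs => rw [h1, inv_mul_cancel_right]
  set C := R ⊓ Subgroup.centralizer (P : Set G) with hC
  have hmemC : ∀ {r : G}, r ∈ C ↔ r ∈ R ∧ ∀ u ∈ P, Commute u r := fun {r} => by
    rw [hC, Subgroup.mem_inf, Subgroup.mem_centralizer_iff]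
    exact Iff.rfl
  have hderC : ⁅R, R⁆ ≤ C := by
    have hle : ⁅R, R⁆ ≤ R := Subgroup.commutator_le.mpr fun a ha b hb =>
      mul_mem (mul_mem (mul_mem ha hb) (inv_mem ha)) (inv_mem hb)
    have hne' : ⁅R, R⁆ ≠ R := fun he => hne (by
      have hbot : R = ⊥ := by
        haveI := hsolv
        by_contra hR
        haveI : Nontrivial R := (Subgroup.nontrivial_iff_ne_bot R).mpr hR
        refine (Group.IsSolvable.commutator_lt_top_of_nontrivial R).ne (Subgroup.map_injective R.subtype_injective ?_)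
        rw [commutator_def, Subgroup.map_commutator, ← MonoidHom.range_eq_map, Subgroup.range_subtype, he]
      intro x _
      rw [hbot, Subgroup.mem_centralizer_iff]
      intro r hr
      rw [SetLike.mem_coe, Subgroup.mem_bot] at hr
      rw [hr, one_mul, mul_one])
    intro c hc
    refine hmemC.mpr ⟨hle hc, fun u hu => (Subgroup.mem_centralizer_iff.mp
      (hmin _ hle hne' (CfsgLib.Coprime.le_normalizer_commutator hn hn) hu) c hc).symm⟩
  have hcent : ∀ c ∈ C, ∀ r ∈ R, c * r = r * c := by
    intro c hc r hr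
    obtain ⟨hcR, hcP⟩ := hmemC.mp hc
    rw [← hgen] at hr
    suffices hle : Subgroup.closure gens ≤ Subgroup.centralizer {c} by
      exact (Subgroup.mem_centralizer_singleton_iff.mp (hle hr)).symm
    rw [Subgroup.closure_le]
    rintro _ ⟨s, hs, u, hu, rfl⟩
    rw [SetLike.mem_coe, Subgroup.mem_centralizer_singleton_iff]
    obtain ⟨-, hdP⟩ := hmemC.mp (hderC (Subgroup.commutator_mem_commutator hcR hs))
    set d := ⁅c, s⁆ with hd
    have e1 : c * s = d * (s * c) := by rw [hd, commutatorElement_def]; group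
    have e2 : c * (u * s * u⁻¹) = d * (u * s * u⁻¹ * c) := by
      have h : u * (c * s) * u⁻¹ = u * (d * (s * c)) * u⁻¹ := congrArg (fun g => u * g * u⁻¹) e1
      rw [show u * (c * s) * u⁻¹ = (u * c * u⁻¹) * (u * s * u⁻¹) by group,
        show u * (d * (s * c)) * u⁻¹ = (u * d * u⁻¹) * ((u * s * u⁻¹) * (u * c * u⁻¹)) by group,
        hfix (hcP u hu), hfix (hdP u hu)] at h
      exact h
    have e3 : c * s⁻¹ = s⁻¹ * (d⁻¹ * c) := by
      have h : s * c = d⁻¹ * (c * s) := by rw [e1, inv_mul_cancel_left]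
      calc c * s⁻¹ = s⁻¹ * (s * c) * s⁻¹ := by group
        _ = _ := by rw [h]; group
    calc (s⁻¹ * (u * s * u⁻¹)) * c = s⁻¹ * ((u * s * u⁻¹) * c) := mul_assoc _ _ _
      _ = s⁻¹ * (d⁻¹ * (c * (u * s * u⁻¹))) := by rw [e2, inv_mul_cancel_left]
      _ = _ := by rw [← mul_assoc c s⁻¹ (u * s * u⁻¹), e3]; simp only [mul_assoc]
  have hcardR : (Nat.card R : ℂ) ≠ 0 := Nat.cast_ne_zero.mpr Nat.card_pos.ne'
  have hPone : ∀ x : G, Nat.card P = 1 → x ∈ P → x = 1 := fun x h hx => by
    rw [Subgroup.card_eq_one.mp h] at hx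
    exact Subgroup.mem_bot.mp hx
  by_cases hab : ∀ a ∈ R, ∀ b ∈ R, a * b = b * a
  · -- abelian
    letI : CommGroup R := { (inferInstance : Group R) with
      mul_comm := fun a b => Subtype.ext (hab a a.2 b b.2) }
    have hCbot : ∀ c ∈ C, c = 1 := by
      intro c hc
      obtain ⟨hcR, hcP⟩ := hmemC.mp hc
      letI := Fintype.ofFinite P
      let N : R →* R :=
        { toFun := fun r => ∏ u : P, (⟨(u : G) * r * (u : G)⁻¹, hRc u u.2 r r.2⟩ : R)
          map_one' := Finset.prod_eq_one fun u _ => Subtype.ext (by simp)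
          map_mul' := fun a b => by
            rw [← Finset.prod_mul_distrib]
            exact Finset.prod_congr rfl fun u _ => Subtype.ext (by simp [mul_assoc]) }
      have hNc : N ⟨c, hcR⟩ = (⟨c, hcR⟩ : R) ^ Fintype.card P := by
        show ∏ u : P, _ = _
        rw [← Finset.card_univ, ← Finset.prod_const]
        exact Finset.prod_congr rfl fun u _ => Subtype.ext (hfix (hcP u u.2))
      have hN1 : ∀ r : R, N r = 1 := by
        rintro ⟨r, hr⟩
        have hker : R ≤ N.ker.map R.subtype := by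
          refine hgen.ge.trans ((Subgroup.closure_le _).mpr ?_)
          rintro _ ⟨s, hs, v, hv, rfl⟩
          refine ⟨(⟨s, hs⟩ : R)⁻¹ * ⟨v * s * v⁻¹, hRc v hv s hs⟩, ?_, rfl⟩
          rw [SetLike.mem_coe, MonoidHom.mem_ker, map_mul, map_inv, inv_mul_eq_one]
          show ∏ u : P, _ = ∏ u : P, _
          refine (Fintype.prod_equiv (Equiv.mulRight (⟨v, hv⟩ : P)) _ _ fun u => Subtype.ext ?_).symm
          show (u : G) * (v * s * v⁻¹) * (u : G)⁻¹ = (u : G) * v * s * ((u : G) * v)⁻¹
          group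
        obtain ⟨r', hr', he⟩ := hker hr
        rw [show (⟨r, hr⟩ : R) = r' from Subtype.ext he.symm]
        exact hr'
      have h1 : (⟨c, hcR⟩ : R) ^ Fintype.card P = 1 := hNc ▸ hN1 _
      have h2 : c ^ Fintype.card P = 1 := congrArg Subtype.val h1
      refine orderOf_eq_one_iff.mp (Nat.eq_one_of_dvd_coprimes hcop ?_ (Subgroup.orderOf_dvd_natCard R hcR))
      rw [Nat.card_eq_fintype_card]
      exact orderOf_dvd_of_pow_eq_one h2
    let σ : R →* Module.End ℂ (Fin n → ℂ) := ρ.comp R.subtype
    letI := Fintype.ofFinite (R →* ℂˣ)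
    obtain ⟨r₁, hr₁⟩ : ∃ r : R, r ≠ 1 := by
      by_contra h
      push Not at h
      refine hne fun x _ => Subgroup.mem_centralizer_iff.mpr fun r hr => ?_
      rw [show r = 1 from congrArg Subtype.val (h ⟨r, hr⟩), one_mul, mul_one]
    obtain ⟨χ, hχ, hχ1⟩ : ∃ χ : R →* ℂˣ, AbelianIdem.idem σ χ ≠ 0 ∧ χ r₁ ≠ 1 := by
      by_contra h
      push Not at h
      refine hr₁ (Subtype.ext (hinj _ r₁.2 ?_))
      refine AbelianIdem.eq_one_of_forall σ hcardR fun χ hχ => ?_
      have := AbelianIdem.map_mul_idem σ χ r₁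
      rwa [h χ hχ, Units.val_one, one_smul] at this
    let cj : P → (R →* ℂˣ) := fun u => χ.comp
      (OrderThree.conjRes R (u : G) (hn u.2)).symm.toMonoidHom
    have hconj : ∀ u : P, ρ u * AbelianIdem.idem σ χ = AbelianIdem.idem σ (cj u) * ρ u := fun u =>
      AbelianIdem.conj_idem σ (ρ.toHomUnits u) (OrderThree.conjRes R (u : G) (hn u.2)) (fun m => by
        show ρ u * ρ m = ρ (u * m * (u : G)⁻¹) * ρ u
        rw [← map_mul, ← map_mul, inv_mul_cancel_right]) χ
    have hinjc : Function.Injective cj := by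
      intro u v huv
      by_contra hne'
      set x : G := (u : G)⁻¹ * v with hx
      have hxP : x ∈ P := mul_mem (inv_mem u.2) v.2
      have hx1 : x ≠ 1 := fun h => hne' (Subtype.ext (inv_mul_eq_one.mp h))
      have hxχ : ∀ r : R, χ ⟨x * r * x⁻¹, hRc x hxP r r.2⟩ = χ r := by
        intro r
        have h := DFunLike.congr_fun huv ⟨(v : G) * r * (v : G)⁻¹, hRc v v.2 r r.2⟩
        simp only [cj, MonoidHom.comp_apply, MulEquiv.coe_toMonoidHom] at h
        have e1 : (OrderThree.conjRes R (u : G) (hn u.2)).symm ⟨(v : G) * r * (v : G)⁻¹, hRc v v.2 r r.2⟩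
            = ⟨x * r * x⁻¹, hRc x hxP r r.2⟩ := Subtype.ext (by
          show (u : G)⁻¹ * ((v : G) * r * (v : G)⁻¹) * u = x * r * x⁻¹
          rw [hx]; group)
        have e2 : (OrderThree.conjRes R (v : G) (hn v.2)).symm ⟨(v : G) * r * (v : G)⁻¹, hRc v v.2 r r.2⟩
            = r := Subtype.ext (by
          show (v : G)⁻¹ * ((v : G) * r * (v : G)⁻¹) * v = r
          group)
        rwa [e1, e2] at h
      let ψ : R → R := fun r => r⁻¹ * ⟨x * r * x⁻¹, hRc x hxP r r.2⟩
      have hψ : Function.Injective ψ := by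
        intro a b hab'
        have h : Commute x ((b * a⁻¹ : R) : G) := by
          have h' := congrArg Subtype.val hab'
          simp only [ψ, Subgroup.coe_mul, Subgroup.coe_inv] at h'
          have h'' : (b : G) * (a : G)⁻¹ * (x * a * x⁻¹) = x * b * x⁻¹ := by
            rw [mul_assoc, h', mul_inv_cancel_left]
          rw [Subgroup.coe_mul, Subgroup.coe_inv]
          calc x * ((b : G) * (a : G)⁻¹) = (x * b * x⁻¹) * (x * a * x⁻¹)⁻¹ * x := by group
            _ = _ := by rw [← h'', mul_inv_cancel_right]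
        have h1 := hCbot _ (hmemC.mpr ⟨(b * a⁻¹ : R).2, hsemi x hxP hx1 _ (b * a⁻¹ : R).2 h⟩)
        exact (mul_inv_eq_one.mp (Subtype.ext h1)).symm
      obtain ⟨r, hr⟩ := (Finite.injective_iff_surjective.mp hψ) r₁
      refine hχ1 ?_
      rw [← hr, map_mul, map_inv, hxχ, inv_mul_cancel]
    have hv : ∀ u : P, ∃ v, AbelianIdem.idem σ (cj u) v ≠ 0 := by
      intro u
      by_contra h
      push Not at h
      refine hχ (LinearMap.ext fun w => ?_)
      have h1 := LinearMap.congr_fun (hconj u) w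
      simp only [Module.End.mul_apply, h] at h1
      have h2 := congrArg (fun y => ρ (u : G)⁻¹ y) h1
      simp only [← Module.End.mul_apply, ← mul_assoc, ← map_mul, inv_mul_cancel, map_one, one_mul,
        map_zero] at h2
      exact h2
    choose v hv using hv
    letI := Fintype.ofFinite P
    have hli : LinearIndependent ℂ fun u => AbelianIdem.idem σ (cj u) (v u) := by
      rw [Fintype.linearIndependent_iff]
      intro g hg u
      have h := congrArg (fun y => AbelianIdem.idem σ (cj u) y) hg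
      simp only [map_sum, map_smul, map_zero, ← Module.End.mul_apply,
        AbelianIdem.idem_mul_idem σ hcardR] at h
      rw [Finset.sum_eq_single u (fun w _ hw => by
        rw [if_neg (fun e => hw (hinjc e).symm)]; simp) (by simp), if_pos rfl] at h
      exact (smul_eq_zero.mp h).resolve_right (hv u)
    have hle := hli.fintype_card_le_finrank
    rw [Module.finrank_fin_fun, ← Nat.card_eq_fintype_card] at hle
    have h1 : 1 < Nat.card P := (Subgroup.one_lt_card_iff_ne_bot _).mpr hP1
    calc Nat.card P ≤ n := hle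
      _ < n ^ 2 := by nlinarith
  · -- nonabelian
    push Not at hab
    obtain ⟨a₀, ha₀, b₀, hb₀, hne₀⟩ := hab
    letI : CommGroup C := { (inferInstance : Group C) with
      mul_comm := fun a b => Subtype.ext (hcent a a.2 b (hmemC.mp b.2).1) }
    haveI : Finite C := Finite.of_injective _ (Subgroup.subtype_injective C)
    have hCC : (Nat.card C : ℂ) ≠ 0 := Nat.cast_ne_zero.mpr Nat.card_pos.ne'
    let σ : C →* Module.End ℂ (Fin n → ℂ) := ρ.comp C.subtype
    letI := Fintype.ofFinite (C →* ℂˣ)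
    let cm : ∀ a ∈ R, ∀ b ∈ R, C := fun a ha b hb => ⟨⁅a, b⁆, hderC (Subgroup.commutator_mem_commutator ha hb)⟩
    obtain ⟨ω, hω, hω1⟩ : ∃ ω : C →* ℂˣ, AbelianIdem.idem σ ω ≠ 0 ∧ ω (cm a₀ ha₀ b₀ hb₀) ≠ 1 := by
      by_contra h
      push Not at h
      refine hne₀ (commutatorElement_eq_one_iff_mul_comm.mp (hinj _ (hmemC.mp (cm a₀ ha₀ b₀ hb₀).2).1 ?_))
      refine AbelianIdem.eq_one_of_forall σ hCC fun χ hχ => ?_
      have := AbelianIdem.map_mul_idem σ χ (cm a₀ ha₀ b₀ hb₀)
      rwa [h χ hχ, Units.val_one, one_smul] at this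
    set e := AbelianIdem.idem σ ω with he
    have hecomm : ∀ r ∈ R, Commute (ρ r) e := fun r hr => AbelianIdem.commute_idem σ _ (fun c => by
      show ρ r * ρ c = ρ c * ρ r
      rw [← map_mul, ← map_mul, hcent c c.2 r hr]) ω
    have hval : ∀ (c : C), ρ c * e = (ω c).1 • e := fun c => AbelianIdem.map_mul_idem σ ω c
    -- elements pairing trivially with everything lie in `C`
    have hrad : ∀ r, ∀ hr : r ∈ R, (∀ y, ∀ hy : y ∈ R, ω (cm y hy r hr) = 1) → r ∈ C := by
      let Rad : Subgroup G :=
        { carrier := {r | ∃ hr : r ∈ R, ∀ y, ∀ hy : y ∈ R, ω (cm y hy r hr) = 1}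
          one_mem' := ⟨R.one_mem, fun y hy => by
            rw [← map_one ω]; congr 1; exact Subtype.ext (commutatorElement_one_right y)⟩
          mul_mem' := by
            rintro a b ⟨ha, ha'⟩ ⟨hb, hb'⟩
            refine ⟨mul_mem ha hb, fun y hy => ?_⟩
            have e : cm y hy (a * b) (mul_mem ha hb) = cm y hy a ha * cm y hy b hb := Subtype.ext (by
              have hd : a * ⁅y, b⁆ * a⁻¹ = ⁅y, b⁆ := by
                rw [← hcent _ (cm y hy b hb).2 a ha, mul_inv_cancel_right]
              show ⁅y, a * b⁆ = ⁅y, a⁆ * ⁅y, b⁆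
              calc ⁅y, a * b⁆ = ⁅y, a⁆ * (a * ⁅y, b⁆ * a⁻¹) := by simp only [commutatorElement_def]; group
                _ = _ := by rw [hd])
            rw [e, map_mul, ha' y hy, hb' y hy, one_mul]
          inv_mem' := by
            rintro a ⟨ha, ha'⟩
            refine ⟨inv_mem ha, fun y hy => ?_⟩
            have e : cm y hy a ha * cm y hy a⁻¹ (inv_mem ha) = 1 := Subtype.ext (by
              have hd : a * ⁅y, a⁻¹⁆ * a⁻¹ = ⁅y, a⁻¹⁆ := by
                rw [← hcent _ (cm y hy a⁻¹ (inv_mem ha)).2 a ha, mul_inv_cancel_right]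
              show ⁅y, a⁆ * ⁅y, a⁻¹⁆ = 1
              rw [← hd]; simp only [commutatorElement_def]; group)
            have := congrArg ω e
            rwa [map_mul, ha' y hy, one_mul, map_one] at this }
      have hRad : Rad ≤ R := fun r hr => hr.1
      have hRadinv : P ≤ Subgroup.normalizer (Rad : Set G) := by
        have key : ∀ u ∈ P, ∀ r ∈ Rad, u * r * u⁻¹ ∈ Rad := by
          rintro u hu r ⟨hr, hr'⟩
          refine ⟨hRc u hu r hr, fun y hy => ?_⟩
          have hy' : u⁻¹ * y * u ∈ R := by simpa using hRc u⁻¹ (inv_mem hu) y hy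
          rw [← hr' _ hy']
          congr 1
          apply Subtype.ext
          show ⁅y, u * r * u⁻¹⁆ = ⁅u⁻¹ * y * u, r⁆
          refine Eq.trans ?_ (show u * ⁅u⁻¹ * y * u, r⁆ * u⁻¹ = ⁅u⁻¹ * y * u, r⁆ from
            hfix ((hmemC.mp (cm _ hy' r hr).2).2 u hu))
          simp only [commutatorElement_def]; group
        intro u hu
        rw [Subgroup.mem_normalizer_iff]
        refine fun g => ⟨key u hu g, fun hg => ?_⟩
        have := key u⁻¹ (inv_mem hu) _ hg
        simpa [mul_assoc] using this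
      have hRadne : Rad ≠ R := fun h => by
        obtain ⟨hb, hb'⟩ := h.ge hb₀
        exact hω1 (hb' a₀ ha₀)
      intro r hr hr'
      exact hmemC.mpr ⟨hr, fun u hu => (Subgroup.mem_centralizer_iff.mp
        (hmin Rad hRad hRadne hRadinv hu) r ⟨hr, hr'⟩).symm⟩
    have htr : ∀ r ∈ R, r ∉ C → LinearMap.trace ℂ _ (ρ r * e) = 0 := by
      intro r hr hrC
      obtain ⟨y, hy, hyr⟩ : ∃ y, ∃ hy : y ∈ R, ω (cm y hy r hr) ≠ 1 := by
        by_contra h
        push Not at h
        exact hrC (hrad r hr h)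
      have e1 : ρ y * (ρ r * e) * ρ y⁻¹ = (ω (cm y hy r hr)).1 • (ρ r * e) := by
        calc ρ y * (ρ r * e) * ρ y⁻¹ = ρ y * (ρ r * (e * ρ y⁻¹)) := by simp only [mul_assoc]
          _ = ρ y * (ρ r * (ρ y⁻¹ * e)) := by rw [(hecomm y⁻¹ (inv_mem hy)).eq]
          _ = ρ (⁅y, r⁆ * r) * e := by
            rw [← mul_assoc, ← mul_assoc, ← map_mul, ← map_mul]
            congr 2
            rw [commutatorElement_def, inv_mul_cancel_right]
          _ = _ := by
            rw [show ⁅y, r⁆ * r = r * ⁅y, r⁆ from hcent _ (cm y hy r hr).2 r hr, map_mul, mul_assoc,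
              show ρ ⁅y, r⁆ * e = _ from hval (cm y hy r hr), mul_smul_comm]
      have h := congrArg (LinearMap.trace ℂ _) e1
      rw [LinearMap.trace_mul_comm, ← mul_assoc, ← map_mul, inv_mul_cancel, map_one, one_mul,
        map_smul, smul_eq_mul] at h
      exact eq_zero_of_mul_eq_self_left (fun h1 => hyr (Units.ext h1)) h.symm
    have htre : LinearMap.trace ℂ _ e ≠ 0 := by
      have hidem : IsIdempotentElem e := by
        show e * e = e
        rw [he, AbelianIdem.idem_mul_idem σ hCC, if_pos rfl]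
      rw [(LinearMap.IsProj.trace (f := e) (p := LinearMap.range e)
        (LinearMap.IsIdempotentElem.isProj_range e hidem))]
      simp only [ne_eq, Nat.cast_eq_zero, Submodule.finrank_eq_zero, LinearMap.range_eq_bot]
      exact hω
    set C' := C.subgroupOf R with hC'
    letI := Fintype.ofFinite (R ⧸ C')
    let rep : R ⧸ C' → R := Quotient.out
    have hli : LinearIndependent ℂ fun q => ρ (rep q : G) * e := by
      rw [Fintype.linearIndependent_iff]
      intro g hg q
      have h := congrArg (fun X => LinearMap.trace ℂ _ (ρ ((rep q : G))⁻¹ * X)) hg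
      simp only [Finset.mul_sum, map_sum, mul_smul_comm, ← mul_assoc, ← map_mul, map_smul, mul_zero,
        map_zero] at h
      rw [Finset.sum_eq_single q (fun w _ hw => by
        rw [htr _ (mul_mem (inv_mem (rep q).2) (rep w).2) (fun hmem => hw (by
          have h1 : ((rep q : R) : R ⧸ C') = (rep w : R) := QuotientGroup.eq.mpr (by
            rw [hC', Subgroup.mem_subgroupOf]; exact hmem)
          rw [show ((rep q : R) : R ⧸ C') = q from Quotient.out_eq q,
            show ((rep w : R) : R ⧸ C') = w from Quotient.out_eq w] at h1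
          exact h1.symm)), smul_zero]) (by simp), inv_mul_cancel, map_one, one_mul] at h
      exact (smul_eq_zero.mp h).resolve_right htre
    have hle := hli.fintype_card_le_finrank
    rw [Module.finrank_linearMap, Module.finrank_fin_fun] at hle
    -- `P` is semiregular on the nontrivial cosets
    obtain ⟨q₁, hq₁⟩ : ∃ r : R, (r : G) ∉ C := ⟨⟨a₀, ha₀⟩, fun h => hne₀ (hcent a₀ h b₀ hb₀)⟩
    letI := Fintype.ofFinite P
    let f : Option P → R ⧸ C' := fun o => match o with
      | none => ((1 : R) : R ⧸ C')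
      | some u => ((⟨(u : G) * q₁ * (u : G)⁻¹, hRc u u.2 q₁ q₁.2⟩ : R) : R ⧸ C')
    have hnot : ∀ u : P, f none ≠ f (some u) := fun u h => by
      simp only [f, QuotientGroup.eq, inv_one, one_mul, hC', Subgroup.mem_subgroupOf] at h
      refine hq₁ ?_
      have h' := hfix ((hmemC.mp h).2 (u : G)⁻¹ (inv_mem u.2))
      rw [show (u : G)⁻¹ * ((u : G) * q₁ * (u : G)⁻¹) * ((u : G)⁻¹)⁻¹ = q₁ by group] at h'
      rw [h']; exact h
    have hf : Function.Injective f := by
      rintro (_ | u) (_ | w) h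
      · rfl
      · exact absurd h (hnot w)
      · exact absurd h.symm (hnot u)
      · congr 1
        by_contra hne'
        simp only [f, QuotientGroup.eq, hC', Subgroup.mem_subgroupOf, Subgroup.coe_mul,
          Subgroup.coe_inv] at h
        set x : G := (u : G)⁻¹ * w with hx
        have hxP : x ∈ P := mul_mem (inv_mem u.2) w.2
        have hx1 : x ≠ 1 := fun h => hne' (Subtype.ext (inv_mul_eq_one.mp h))
        set z : G := (q₁ : G)⁻¹ * (x * q₁ * x⁻¹) with hz
        have hzC : z ∈ C := by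
          obtain ⟨hR1, hP1'⟩ := hmemC.mp h
          have h2 := hfix (hP1' (u : G)⁻¹ (inv_mem u.2))
          have : z = ((u : G) * q₁ * (u : G)⁻¹)⁻¹ * ((w : G) * q₁ * (w : G)⁻¹) := by
            rw [← h2, hz, hx]; group
          rw [this]; exact h
        have h1 := hmoved x hxP q₁ q₁.2 z (hmemC.mp hzC).1 (mul_inv_cancel_left _ _).symm
          ((hmemC.mp hzC).2 x hxP)
        rw [hz, inv_mul_eq_one] at h1
        have hc : Commute x q₁ := by
          show x * q₁ = q₁ * x
          conv_rhs => rw [h1, inv_mul_cancel_right]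
        exact hq₁ (hmemC.mpr ⟨q₁.2, hsemi x hxP hx1 _ q₁.2 hc⟩)
    have := Fintype.card_le_of_injective f hf
    rw [Fintype.card_option, ← Nat.card_eq_fintype_card] at this
    calc Nat.card P < Nat.card P + 1 := Nat.lt_succ_self _
      _ ≤ Fintype.card (R ⧸ C') := this
      _ ≤ n * n := hle
      _ = n ^ 2 := (pow_two n).symm

end CfsgLib.TIDegree
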