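import Mathlib
import Cfsg.Prelude.Def_Local
import Cfsg.Prelude.Def_Transfer
import Cfsg.Agent.Lib.Fitting.Basic
import Cfsg.Agent.Lib.IsolatedMin.Basic
import Cfsg.Agent.Lib.Layer.Basic

/-!
An elementary abelian TI 2-subgroup `V`, maximal abelian normal in its normalizer `M`, with a
conjugate `V^g ≠ V` inside `O₂(M)`: the structure of `C_{O₂(M)}(V)`.

`cr V` is `C_{O₂(M)}(V)`, `Ps V x` its conjugate by `x`.
-/

set_option autoImplicit false
set_option linter.style.haveILetI false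
set_option linter.unusedSectionVars false

open scoped commutatorElement Pointwise

namespace CfsgLib.TI.LargeRadical

variable {G : Type*} [Group G]

/-- The conjugate of `V` by `x`. -/
def cj (V : Subgroup G) (x : G) : Subgroup G := V.map (MulAut.conj x).toMonoidHom

/-- The normalizer of `V`. -/
abbrev nor (V : Subgroup G) : Subgroup G := Subgroup.normalizer (V : Set G)

/-- The largest normal 2-subgroup of the normalizer. -/
def rad (V : Subgroup G) : Subgroup G := (Cfsg.pCore 2 ↥(nor V)).map (nor V).subtype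

/-- `C_{O₂(M)}(V)`. -/
def cr (V : Subgroup G) : Subgroup G := rad V ⊓ Subgroup.centralizer (V : Set G)

/-- The conjugate of `cr V` by `x`. -/
def Ps (V : Subgroup G) (x : G) : Subgroup G := (cr V).map (MulAut.conj x).toMonoidHom

theorem mem_cj {V : Subgroup G} {x z : G} : z ∈ cj V x ↔ x⁻¹ * z * x ∈ V := by
  constructor
  · rintro ⟨y, hy, rfl⟩
    show x⁻¹ * (x * y * x⁻¹) * x ∈ V
    simpa [mul_assoc] using hy
  · intro h
    exact ⟨_, h, show x * (x⁻¹ * z * x) * x⁻¹ = z by group⟩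

theorem mem_Ps {V : Subgroup G} {x z : G} : z ∈ Ps V x ↔ x⁻¹ * z * x ∈ cr V := mem_cj

theorem mem_cj_mul {V : Subgroup G} {x y z : G} : z ∈ cj V (x * y) ↔ x⁻¹ * z * x ∈ cj V y := by
  rw [mem_cj, mem_cj, show (x * y)⁻¹ * z * (x * y) = y⁻¹ * (x⁻¹ * z * x) * y by group]

theorem cj_one (V : Subgroup G) : cj V 1 = V := Subgroup.ext fun z => by simp [mem_cj]

theorem cj_eq_cancel {V : Subgroup G} {x y : G} (h : cj V x = cj V y) (n : G) :
    cj V (n * x) = cj V (n * y) :=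
  Subgroup.ext fun z => by rw [mem_cj_mul, mem_cj_mul, h]

theorem card_cj (V : Subgroup G) (x : G) : Nat.card (cj V x) = Nat.card V :=
  (Nat.card_congr (Subgroup.equivMapOfInjective V _ (MulAut.conj x).injective).toEquiv).symm

theorem mem_nor_iff [Finite G] {V : Subgroup G} {x : G} : x ∈ nor V ↔ cj V x = V := by
  constructor
  · intro hx
    refine Subgroup.ext fun z => ?_
    rw [mem_cj, Subgroup.mem_normalizer_iff''.mp hx z]
  · intro h
    refine Subgroup.mem_normalizer_iff''.mpr fun z => ?_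
    rw [← mem_cj, h]

/-- The hypotheses. -/
structure Ctx (V : Subgroup G) : Prop where
  comm : ∀ a ∈ V, ∀ b ∈ V, a * b = b * a
  sq : ∀ a ∈ V, a * a = 1
  ti : ∀ x z, z ∈ cj V x → z ∈ V → z ≠ 1 → cj V x = V
  maxAb : ∀ A : Subgroup G, V ≤ A → A ≤ nor V → (∀ a ∈ A, ∀ b ∈ A, a * b = b * a) →
    (∀ m ∈ nor V, ∀ a ∈ A, m * a * m⁻¹ ∈ A) → A = V
  selfc : ∀ x ∈ nor V, (∀ t ∈ rad V, x * t = t * x) → x ∈ rad V

variable [Finite G] {V : Subgroup G} (h : Ctx V)
include h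

namespace Ctx

theorem inv_eq {a : G} (ha : a ∈ V) : a⁻¹ = a := inv_eq_of_mul_eq_one_right (h.sq a ha)

theorem comm_cj {x a b : G} (ha : a ∈ cj V x) (hb : b ∈ cj V x) : a * b = b * a := by
  have := h.comm _ (mem_cj.mp ha) _ (mem_cj.mp hb)
  have h2 := congrArg (fun z => x * z * x⁻¹) this
  simpa [mul_assoc] using h2

theorem sq_cj {x a : G} (ha : a ∈ cj V x) : a * a = 1 := by
  have := h.sq _ (mem_cj.mp ha)
  have h2 := congrArg (fun z => x * z * x⁻¹) this
  simpa [mul_assoc] using h2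

theorem inv_cj {x a : G} (ha : a ∈ cj V x) : a⁻¹ = a := inv_eq_of_mul_eq_one_right (h.sq_cj ha)

/-- Two conjugates sharing a nontrivial element are equal. -/
theorem ti2 {x y z : G} (hx : z ∈ cj V x) (hy : z ∈ cj V y) (hz : z ≠ 1) : cj V x = cj V y := by
  have h1 : y⁻¹ * z * y ∈ cj V (y⁻¹ * x) := by
    rw [mem_cj_mul]; simpa [mul_assoc] using hx
  have h2 : y⁻¹ * z * y ≠ 1 := fun e => hz (by
    have := congrArg (fun t => y * t * y⁻¹) e
    simpa [mul_assoc] using this)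
  have h3 := cj_eq_cancel (y := 1) ((h.ti _ _ h1 (mem_cj.mp hy) h2).trans (cj_one V).symm) y
  rwa [mul_inv_cancel_left, mul_one] at h3

theorem disjoint {x z : G} (hne : cj V x ≠ V) (hx : z ∈ cj V x) (hV : z ∈ V) : z = 1 :=
  by_contra fun hz => hne (h.ti x z hx hV hz)

/-- An element commuting with a nontrivial element of a conjugate normalizes it. -/
theorem cj_of_comm {x y z : G} (hx : z ∈ cj V x) (hz : z ≠ 1) (e : y * z = z * y) :
    cj V (y * x) = cj V x := by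
  refine h.ti2 (z := z) ?_ hx hz
  rw [mem_cj_mul, mul_assoc, ← e, inv_mul_cancel_left]
  exact hx

theorem le_nor : V ≤ nor V := Subgroup.le_normalizer

omit h in
theorem rad_le : rad V ≤ nor V := Subgroup.map_subtype_le _

omit h in
theorem rad_conj {m t : G} (hm : m ∈ nor V) (ht : t ∈ rad V) : m * t * m⁻¹ ∈ rad V := by
  obtain ⟨t', ht', rfl⟩ := ht
  haveI := CfsgLib.Fitting.pCore_normal (G := ↥(nor V)) 2
  exact ⟨⟨m, hm⟩ * t' * ⟨m, hm⟩⁻¹, this.conj_mem t' ht' _, rfl⟩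

omit h in
theorem isPGroup_rad : IsPGroup 2 (rad V) :=
  (CfsgLib.Fitting.pCore_isPGroup (G := ↥(nor V)) 2).map _

omit h in
theorem le_rad {N : Subgroup G} (hN : N ≤ nor V) (hn : ∀ m ∈ nor V, ∀ a ∈ N, m * a * m⁻¹ ∈ N)
    (hp : IsPGroup 2 N) : N ≤ rad V := by
  intro a ha
  haveI : (N.subgroupOf (nor V)).Normal := ⟨fun b hb m => hn m m.2 b hb⟩
  refine ⟨⟨a, hN ha⟩, CfsgLib.Fitting.le_pCore inferInstance
    (hp.of_equiv (Subgroup.subgroupOfEquivOfLe hN).symm) (show (a : G) ∈ N from ha), rfl⟩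

theorem isPGroup : IsPGroup 2 V := fun a => ⟨1, Subtype.ext (by
  show ((a : G)) ^ (2 ^ 1) = 1
  rw [pow_one, pow_two]; exact h.sq a a.2)⟩

theorem le_radV : V ≤ rad V :=
  le_rad h.le_nor (fun m hm a ha => (Subgroup.mem_normalizer_iff.mp hm a).mp ha) h.isPGroup

omit h in
theorem mem_cr {x : G} : x ∈ cr V ↔ x ∈ rad V ∧ ∀ v ∈ V, x * v = v * x := by
  rw [cr, Subgroup.mem_inf, Subgroup.mem_centralizer_iff]
  exact and_congr_right fun _ => ⟨fun e v hv => (e v hv).symm, fun e v hv => (e v hv).symm⟩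

theorem le_cr : V ≤ cr V := fun a ha => mem_cr.mpr ⟨h.le_radV ha, fun v hv => h.comm a ha v hv⟩

omit h in
theorem cr_le : cr V ≤ nor V := inf_le_left.trans rad_le

omit h in
theorem cr_conj {m t : G} (hm : m ∈ nor V) (ht : t ∈ cr V) : m * t * m⁻¹ ∈ cr V := by
  rw [mem_cr] at ht ⊢
  refine ⟨rad_conj hm ht.1, fun v hv => ?_⟩
  have h1 : m⁻¹ * v * m ∈ V := (Subgroup.mem_normalizer_iff''.mp hm v).mp hv
  have h2 := congrArg (fun z => m * z * m⁻¹) (ht.2 _ h1)
  simpa [mul_assoc] using h2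

omit h in
theorem isPGroup_cr : IsPGroup 2 (cr V) := isPGroup_rad.to_le inf_le_left

omit h in
theorem comm_V {p v : G} (hp : p ∈ cr V) (hv : v ∈ V) : p * v = v * p := (mem_cr.mp hp).2 v hv

theorem Ps_eq {x y : G} (e : cj V x = cj V y) : Ps V x = Ps V y := by
  have key : ∀ {x y : G}, cj V x = cj V y → Ps V x ≤ Ps V y := fun {x y} e z hz => by
    have hn : y⁻¹ * x ∈ nor V := mem_nor_iff.mpr (by
      rw [cj_eq_cancel e y⁻¹, inv_mul_cancel, cj_one])
    rw [mem_Ps] at hz ⊢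
    have := cr_conj hn hz
    simpa [mul_assoc] using this
  exact le_antisymm (key e) (key e.symm)

omit h in
/-- A nontrivial normal quotient of a 2-group meets the centre. -/
theorem exists_central_mod {X N B : Subgroup G} (hX : IsPGroup 2 X) (hN : N ≤ X)
    (hNn : ∀ x ∈ X, ∀ a ∈ N, x * a * x⁻¹ ∈ N) (hBn : ∀ x ∈ X, ∀ a ∈ B, x * a * x⁻¹ ∈ B)
    (hne : ¬ N ≤ B) : ∃ z ∈ N, z ∉ B ∧ ∀ x ∈ X, x * z * x⁻¹ * z⁻¹ ∈ B := by
  haveI : Fact (Nat.Prime 2) := ⟨Nat.prime_two⟩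
  haveI : (N.subgroupOf X).Normal := ⟨fun b hb m => hNn m m.2 b hb⟩
  haveI : (B.subgroupOf X).Normal := ⟨fun b hb m => hBn m m.2 b hb⟩
  set π := QuotientGroup.mk' (B.subgroupOf X) with hπ
  set N' := (N.subgroupOf X).map π
  haveI : N'.Normal := Subgroup.Normal.map inferInstance π (QuotientGroup.mk'_surjective _)
  have hN' : N' ≠ ⊥ := by
    intro e
    apply hne
    intro a ha
    have : π ⟨a, hN ha⟩ ∈ N' := ⟨⟨a, hN ha⟩, show a ∈ N from ha, rfl⟩
    rw [e, Subgroup.mem_bot] at this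
    have h1 := (QuotientGroup.eq_one_iff _).mp this
    exact h1
  obtain ⟨⟨q, hq⟩, hq0⟩ := Subgroup.ne_bot_iff_exists_ne_one.mp
    (CfsgLib.IsolatedMin.inf_center_ne_bot (hX.to_quotient _) N' hN')
  have hq1 : q ≠ 1 := fun e => hq0 (Subtype.ext e)
  rw [Subgroup.mem_inf] at hq
  obtain ⟨⟨z, hzX⟩, hzN, rfl⟩ := hq.1
  refine ⟨z, hzN, fun hzB => hq1 ((QuotientGroup.eq_one_iff _).mpr hzB), fun x hx => ?_⟩
  have h2 := Subgroup.mem_center_iff.mp hq.2 (π ⟨x, hx⟩)
  have h3 : π (⟨x, hx⟩ * ⟨z, hzX⟩ * (⟨x, hx⟩ : X)⁻¹ * (⟨z, hzX⟩ : X)⁻¹) = 1 := by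
    rw [map_mul, map_mul, map_mul, map_inv, map_inv, h2]; group
  have h4 := (QuotientGroup.eq_one_iff _).mp h3
  exact h4

/-- A conjugate different from `V` which normalizes `V` centralizes it. -/
theorem comm_of_le_nor {x : G} (hne : cj V x ≠ V) (hle : cj V x ≤ nor V) {u v : G}
    (hu : u ∈ cj V x) (hv : v ∈ V) : u * v = v * u := by
  set U := cj V x with hU
  set B := V ⊓ Subgroup.normalizer (U : Set G) with hB
  have hBU : ∀ b ∈ B, ∀ w ∈ U, b * w = w * b := by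
    intro b hb w hw
    obtain ⟨hbV, hbN⟩ := Subgroup.mem_inf.mp hb
    have h1 : b * w * b⁻¹ * w⁻¹ ∈ U :=
      U.mul_mem ((Subgroup.mem_normalizer_iff.mp hbN w).mp hw) (U.inv_mem hw)
    have h2 : b * (w * b⁻¹ * w⁻¹) ∈ V :=
      V.mul_mem hbV ((Subgroup.mem_normalizer_iff.mp (hle hw) _).mp (V.inv_mem hbV))
    rw [show b * (w * b⁻¹ * w⁻¹) = b * w * b⁻¹ * w⁻¹ by group] at h2
    exact commutatorElement_eq_one_iff_mul_comm.mp (h.disjoint hne h1 h2)
  by_contra hne'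
  have hVB : ¬ V ≤ B := fun hl => hne' (hBU v (hl hv) u hu).symm
  have hX : IsPGroup 2 ↥(U ⊔ V) := by
    refine IsPGroup.to_sup_of_normal_right' ?_ h.isPGroup hle
    intro a
    refine ⟨1, Subtype.ext ?_⟩
    show ((a : G)) ^ (2 ^ 1) = 1
    rw [pow_one, pow_two]; exact h.sq_cj a.2
  have hXn : U ⊔ V ≤ nor V := sup_le hle h.le_nor
  have hXB : ∀ y ∈ U ⊔ V, ∀ b ∈ B, y * b = b * y := by
    intro y hy b hb
    have : U ⊔ V ≤ Subgroup.centralizer ({b} : Set G) := sup_le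
      (fun w hw => Subgroup.mem_centralizer_singleton_iff.mpr (hBU b hb w hw).symm)
      (fun w hw => Subgroup.mem_centralizer_singleton_iff.mpr (h.comm w hw b (Subgroup.mem_inf.mp hb).1))
    exact Subgroup.mem_centralizer_singleton_iff.mp (this hy)
  obtain ⟨z, hzV, hzB, hz⟩ := exists_central_mod hX (le_sup_right : V ≤ U ⊔ V)
    (fun y hy a ha => (Subgroup.mem_normalizer_iff.mp (hXn hy) a).mp ha)
    (fun y hy b hb => by rw [hXB y hy b hb, mul_inv_cancel_right]; exact hb) hVB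
  let f : U → B := fun w => ⟨_, hz w (Subgroup.mem_sup_left w.2)⟩
  have hf : Function.Injective f := by
    intro w w' e
    have e1 : (w : G) * z * (w : G)⁻¹ = (w' : G) * z * (w' : G)⁻¹ := mul_right_cancel (congrArg Subtype.val e)
    have e2 : z * ((w : G)⁻¹ * w') = ((w : G)⁻¹ * w') * z := by
      calc z * ((w : G)⁻¹ * w') = (w : G)⁻¹ * ((w : G) * z * (w : G)⁻¹) * w' := by group
        _ = (w : G)⁻¹ * ((w' : G) * z * (w' : G)⁻¹) * w' := by rw [e1]
        _ = _ := by group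
    by_contra hne2
    have hne3 : (w : G)⁻¹ * w' ≠ 1 := fun e3 => hne2 (Subtype.ext (inv_mul_eq_one.mp e3))
    have h3 := h.cj_of_comm (U.mul_mem (U.inv_mem w.2) w'.2) hne3 e2
    refine hzB (Subgroup.mem_inf.mpr ⟨hzV, Subgroup.mem_normalizer_iff''.mpr fun n => ?_⟩)
    rw [hU]
    conv_lhs => rw [← h3]
    rw [mem_cj_mul]
  have h4 : Nat.card U ≤ Nat.card B := Nat.card_le_card_of_injective f hf
  rw [hU, card_cj] at h4
  exact hVB (Subgroup.eq_of_le_of_card_ge inf_le_left h4).ge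

theorem cj_le_cr {x : G} (hne : cj V x ≠ V) (hle : cj V x ≤ rad V) : cj V x ≤ cr V := fun u hu =>
  mem_cr.mpr ⟨hle hu, fun v hv => h.comm_of_le_nor hne (hle.trans rad_le) hu hv⟩

/-- The centre of `cr V` is `V`. -/
theorem central_mem {z : G} (hz : z ∈ cr V) (hc : ∀ t ∈ cr V, z * t = t * z) : z ∈ V := by
  have hA : cr V ⊓ Subgroup.centralizer (cr V : Set G) = V := by
    refine h.maxAb _ ?_ (inf_le_left.trans cr_le) ?_ ?_
    · exact fun a ha => Subgroup.mem_inf.mpr ⟨h.le_cr ha,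
        Subgroup.mem_centralizer_iff.mpr fun t ht => comm_V ht ha⟩
    · intro a ha b hb
      exact (Subgroup.mem_centralizer_iff.mp (Subgroup.mem_inf.mp ha).2 b (Subgroup.mem_inf.mp hb).1).symm
    · intro m hm a ha
      obtain ⟨ha1, ha2⟩ := Subgroup.mem_inf.mp ha
      refine Subgroup.mem_inf.mpr ⟨cr_conj hm ha1, Subgroup.mem_centralizer_iff.mpr fun t ht => ?_⟩
      have h1 : m⁻¹ * t * m ∈ cr V := by simpa using cr_conj ((nor V).inv_mem hm) ht
      have h2 := congrArg (fun w => m * w * m⁻¹) (Subgroup.mem_centralizer_iff.mp ha2 _ h1)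
      simpa [mul_assoc] using h2
  rw [← hA]
  exact Subgroup.mem_inf.mpr ⟨hz, Subgroup.mem_centralizer_iff.mpr fun t ht => (hc t ht).symm⟩

/-- `[P, P] ≤ V`. -/
theorem comm_mem {p q : G} (hp : p ∈ cr V) (hq : q ∈ cr V) : ⁅p, q⁆ ∈ V := by
  set C := ⁅cr V, cr V⁆ with hC
  have hCle : C ≤ cr V := Subgroup.commutator_le_self _
  let D : Subgroup G :=
    { carrier := {d | d ∈ cr V ∧ ∀ x ∈ cr V, ⁅d, x⁆ ∈ V}
      one_mem' := ⟨one_mem _, fun x _ => by rw [commutatorElement_one_left]; exact one_mem _⟩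
      mul_mem' := by
        rintro a b ⟨ha, ha'⟩ ⟨hb, hb'⟩
        refine ⟨mul_mem ha hb, fun x hx => ?_⟩
        have e : ⁅a * b, x⁆ = ⁅b, x⁆ * ⁅a, x⁆ := by
          have h1 : a * ⁅b, x⁆ * a⁻¹ = ⁅b, x⁆ := by
            rw [comm_V ha (hb' x hx), mul_inv_cancel_right]
          calc ⁅a * b, x⁆ = a * ⁅b, x⁆ * a⁻¹ * ⁅a, x⁆ := by simp [commutatorElement_def, mul_assoc]
            _ = _ := by rw [h1]
        rw [e]; exact mul_mem (hb' x hx) (ha' x hx)
      inv_mem' := by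
        rintro a ⟨ha, ha'⟩
        refine ⟨inv_mem ha, fun x hx => ?_⟩
        have e : ⁅a⁻¹, x⁆ = a⁻¹ * ⁅a, x⁆⁻¹ * a := by simp [commutatorElement_def, mul_assoc]
        rw [e, comm_V (inv_mem ha) (inv_mem (ha' x hx)), inv_mul_cancel_right]
        exact inv_mem (ha' x hx) }
  have hVD : V ≤ D := fun v hv => ⟨h.le_cr hv, fun x hx => by
    rw [commutatorElement_eq_one_iff_mul_comm.mpr (comm_V hx hv).symm]; exact one_mem _⟩
  -- elements of `D` centralize the derived subgroup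
  have hDC : ∀ d ∈ D, V ⊔ C ≤ Subgroup.centralizer ({d} : Set G) := by
    rintro d ⟨hd, hd'⟩
    refine sup_le (fun v hv => Subgroup.mem_centralizer_singleton_iff.mpr (comm_V hd hv).symm) ?_
    rw [hC, Subgroup.commutator_le]
    intro a ha b hb
    rw [Subgroup.mem_centralizer_singleton_iff]
    have hd2 : ∀ y ∈ cr V, d * y * d⁻¹ = ⁅d, y⁆ * y := fun y _ => by simp [commutatorElement_def]
    have key : d * ⁅a, b⁆ * d⁻¹ = ⁅a, b⁆ := by
      have e1 : d * ⁅a, b⁆ * d⁻¹ = ⁅d * a * d⁻¹, d * b * d⁻¹⁆ := by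
        simp [commutatorElement_def, mul_assoc]
      rw [e1, hd2 a ha, hd2 b hb]
      have c1 : ∀ y ∈ cr V, Commute ⁅d, a⁆ y := fun y hy => (comm_V hy (hd' a ha)).symm
      have c2 : ∀ y ∈ cr V, Commute ⁅d, b⁆ y := fun y hy => (comm_V hy (hd' b hb)).symm
      set s := ⁅d, a⁆
      set r := ⁅d, b⁆
      have hs : s ∈ cr V := h.le_cr (hd' a ha)
      have hr : r ∈ cr V := h.le_cr (hd' b hb)
      have e2 : ⁅s * a, r * b⁆ = s * (a * (r * b) * a⁻¹) * s⁻¹ * (r * b)⁻¹ := by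
        simp [commutatorElement_def, mul_assoc]
      rw [e2, (c1 _ (mul_mem (mul_mem ha (mul_mem hr hb)) (inv_mem ha))).eq, mul_inv_cancel_right,
        ← mul_assoc a r b, ← (c2 a ha).eq, commutatorElement_def, mul_inv_rev]
      have : a * b * a⁻¹ * b⁻¹ * r⁻¹ = r⁻¹ * (a * b * a⁻¹ * b⁻¹) :=
        ((c2 _ (mul_mem (mul_mem (mul_mem ha hb) (inv_mem ha)) (inv_mem hb))).inv_left.eq).symm
      calc r * a * b * a⁻¹ * (b⁻¹ * r⁻¹) = r * (a * b * a⁻¹ * b⁻¹ * r⁻¹) := by group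
        _ = _ := by rw [this, mul_inv_cancel_left]
    calc ⁅a, b⁆ * d = d * ⁅a, b⁆ * d⁻¹ * d := by rw [key]
      _ = d * ⁅a, b⁆ := inv_mul_cancel_right _ _
  have hVCle : V ⊔ C ≤ cr V := sup_le h.le_cr hCle
  have hVCn : ∀ m ∈ nor V, ∀ a ∈ V ⊔ C, m * a * m⁻¹ ∈ V ⊔ C := by
    intro m hm a ha
    have hle : V ⊔ C ≤ (V ⊔ C).comap (MulAut.conj m).toMonoidHom := by
      refine sup_le (fun v hv => Subgroup.mem_sup_left ((Subgroup.mem_normalizer_iff.mp hm v).mp hv)) ?_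
      rw [hC, Subgroup.commutator_le]
      intro x hx y hy
      refine Subgroup.mem_sup_right ?_
      rw [map_commutatorElement]
      exact Subgroup.commutator_mem_commutator (cr_conj hm hx) (cr_conj hm hy)
    exact hle ha
  have hDn : ∀ m ∈ nor V, ∀ a ∈ D, m * a * m⁻¹ ∈ D := by
    rintro m hm a ⟨ha, ha'⟩
    refine ⟨cr_conj hm ha, fun x hx => ?_⟩
    have h1 : m⁻¹ * x * m ∈ cr V := by simpa using cr_conj ((nor V).inv_mem hm) hx
    have h2 := (Subgroup.mem_normalizer_iff.mp hm _).mp (ha' _ h1)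
    have e : m * ⁅a, m⁻¹ * x * m⁆ * m⁻¹ = ⁅m * a * m⁻¹, x⁆ := by
      simp [commutatorElement_def, mul_assoc]
    rwa [e] at h2
  have hA : D ⊓ (V ⊔ C) = V := by
    refine h.maxAb _ (le_inf hVD le_sup_left) (inf_le_right.trans (hVCle.trans cr_le)) ?_ ?_
    · intro a ha b hb
      exact Subgroup.mem_centralizer_singleton_iff.mp
        (hDC b (Subgroup.mem_inf.mp hb).1 (Subgroup.mem_inf.mp ha).2)
    · intro m hm a ha
      exact Subgroup.mem_inf.mpr ⟨hDn m hm a (Subgroup.mem_inf.mp ha).1,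
        hVCn m hm a (Subgroup.mem_inf.mp ha).2⟩
  by_contra hpq
  have hne : ¬ V ⊔ C ≤ V := fun hle =>
    hpq (hle (Subgroup.mem_sup_right (Subgroup.commutator_mem_commutator hp hq)))
  obtain ⟨z, hz, hzV, hzc⟩ := exists_central_mod isPGroup_cr hVCle
    (fun x hx a ha => hVCn x (cr_le hx) a ha)
    (fun x hx a ha => (Subgroup.mem_normalizer_iff.mp (cr_le hx) a).mp ha) hne
  refine hzV (hA ▸ Subgroup.mem_inf.mpr ⟨⟨hVCle hz, fun x hx => ?_⟩, hz⟩)
  rw [show ⁅z, x⁆ = (x * z * x⁻¹ * z⁻¹)⁻¹ by simp [commutatorElement_def, mul_assoc]]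
  exact V.inv_mem (hzc x hx)

/-- Bilinearity on the left. -/
theorem mul_left {p q r : G} (hp : p ∈ cr V) (hq : q ∈ cr V) (hr : r ∈ cr V) :
    ⁅p * q, r⁆ = ⁅p, r⁆ * ⁅q, r⁆ := by
  have h1 := h.comm_mem hq hr
  calc ⁅p * q, r⁆ = p * ⁅q, r⁆ * p⁻¹ * ⁅p, r⁆ := by simp [commutatorElement_def, mul_assoc]
    _ = _ := by rw [comm_V hp h1, mul_inv_cancel_right, h.comm _ h1 _ (h.comm_mem hp hr)]

theorem symm {p q : G} (hp : p ∈ cr V) (hq : q ∈ cr V) : ⁅q, p⁆ = ⁅p, q⁆ := by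
  rw [← commutatorElement_inv, h.inv_eq (h.comm_mem hp hq)]

theorem mul_right {p q r : G} (hp : p ∈ cr V) (hq : q ∈ cr V) (hr : r ∈ cr V) :
    ⁅r, p * q⁆ = ⁅r, p⁆ * ⁅r, q⁆ := by
  rw [← h.symm hr (mul_mem hp hq), h.mul_left hp hq hr, h.symm hr hp, h.symm hr hq]

theorem sq_mem {p : G} (hp : p ∈ cr V) : p * p ∈ V := by
  refine h.central_mem (mul_mem hp hp) fun t ht => commutatorElement_eq_one_iff_mul_comm.mp ?_
  rw [h.mul_left hp hp ht, h.sq _ (h.comm_mem hp ht)]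

/-- All or none. -/
theorem comm_all {p x k k' : G} (hp : p ∈ cr V) (hne : cj V x ≠ V) (hle : cj V x ≤ cr V)
    (hk : k ∈ cj V x) (hk1 : k ≠ 1) (hc : p * k = k * p) (hk' : k' ∈ cj V x) : p * k' = k' * p := by
  have h1 : p * k' * p⁻¹ ∈ cj V x := by
    rw [← h.cj_of_comm hk hk1 hc, mem_cj_mul]; simpa [mul_assoc] using hk'
  have h2 : ⁅p, k'⁆ = 1 :=
    h.disjoint hne ((cj V x).mul_mem h1 ((cj V x).inv_mem hk')) (h.comm_mem hp (hle hk'))
  exact commutatorElement_eq_one_iff_mul_comm.mp h2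

/-- `u ↦ [p, u]` maps a conjugate onto `V` unless it is trivial. -/
theorem surj {p x : G} (hp : p ∈ cr V) (hne : cj V x ≠ V) (hle : cj V x ≤ cr V) {k₀ : G}
    (hk₀ : k₀ ∈ cj V x) (hpk : p * k₀ ≠ k₀ * p) {v : G} (hv : v ∈ V) :
    ∃ k ∈ cj V x, ⁅p, k⁆ = v := by
  let f : cj V x → V := fun k => ⟨⁅p, k⁆, h.comm_mem hp (hle k.2)⟩
  have hf : Function.Injective f := by
    intro a b e
    have e1 : ⁅p, (a : G)⁆ = ⁅p, (b : G)⁆ := congrArg Subtype.val e
    have h1 : ⁅p, (a : G) * b⁆ = 1 := by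
      rw [h.mul_right (hle a.2) (hle b.2) hp, e1, h.sq _ (h.comm_mem hp (hle b.2))]
    by_contra hab
    have hne2 : (a : G) * b ≠ 1 := fun e2 => hab (Subtype.ext (by
      rw [← h.inv_cj b.2]; exact eq_inv_of_mul_eq_one_left e2))
    exact hpk (h.comm_all hp hne hle ((cj V x).mul_mem a.2 b.2) hne2
      (commutatorElement_eq_one_iff_mul_comm.mp h1) hk₀)
  obtain ⟨k, hk⟩ := ((Nat.bijective_iff_injective_and_card f).mpr ⟨hf, card_cj V x⟩).2 ⟨v, hv⟩
  exact ⟨k, k.2, congrArg Subtype.val hk⟩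

/-- An element of `M` centralizing `cr V` lies in `V`. -/
theorem cent_cr {x : G} (hx : x ∈ nor V) (hc : ∀ t ∈ cr V, x * t = t * x) : x ∈ V := by
  set X := nor V ⊓ Subgroup.centralizer (cr V : Set G) with hX
  have mX : ∀ {y}, y ∈ X → y ∈ nor V ∧ ∀ t ∈ cr V, y * t = t * y := fun hy =>
    ⟨(Subgroup.mem_inf.mp hy).1,
      fun t ht => (Subgroup.mem_centralizer_iff.mp (Subgroup.mem_inf.mp hy).2 t ht).symm⟩
  have hXn : ∀ m ∈ nor V, ∀ a ∈ X, m * a * m⁻¹ ∈ X := by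
    intro m hm a ha
    refine Subgroup.mem_inf.mpr ⟨mul_mem (mul_mem hm (mX ha).1) (inv_mem hm),
      Subgroup.mem_centralizer_iff.mpr fun t ht => ?_⟩
    have h1 : m⁻¹ * t * m ∈ cr V := by simpa using cr_conj ((nor V).inv_mem hm) ht
    have h2 := congrArg (fun w => m * w * m⁻¹) ((mX ha).2 _ h1).symm
    simpa [mul_assoc] using h2
  have hXV : ∀ y ∈ X, y ∈ rad V → y ∈ V := by
    intro y hy hyr
    have hycr : y ∈ cr V := mem_cr.mpr ⟨hyr, fun v hv => (mX hy).2 v (h.le_cr hv)⟩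
    exact h.central_mem hycr (mX hy).2
  have hsq : ∀ y ∈ X, (y * y) * (y * y) = 1 := by
    intro y hy
    refine h.sq _ (hXV _ (mul_mem hy hy) (h.selfc _ (mul_mem (mX hy).1 (mX hy).1) fun t ht => ?_))
    have h1 : ⁅y, t⁆ ∈ V := by
      refine hXV _ ?_ ?_
      · have h2 := hXn t (rad_le ht) _ (inv_mem hy)
        have : ⁅y, t⁆ = y * (t * y⁻¹ * t⁻¹) := by simp [commutatorElement_def, mul_assoc]
        rw [this]; exact mul_mem hy h2
      · exact mul_mem (rad_conj (mX hy).1 ht) (inv_mem ht)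
    have h3 : ⁅y * y, t⁆ = 1 := by
      calc ⁅y * y, t⁆ = y * ⁅y, t⁆ * y⁻¹ * ⁅y, t⁆ := by simp [commutatorElement_def, mul_assoc]
        _ = _ := by rw [(mX hy).2 _ (h.le_cr h1), mul_inv_cancel_right, h.sq _ h1]
    exact commutatorElement_eq_one_iff_mul_comm.mp h3
  have hXp : IsPGroup 2 X := fun y => ⟨2, Subtype.ext (by
    show ((y : G)) ^ (2 ^ 2) = 1
    rw [show (2 : ℕ) ^ 2 = 2 + 2 by norm_num, pow_add, pow_two]
    exact hsq y y.2)⟩
  have hxX : x ∈ X := Subgroup.mem_inf.mpr ⟨hx, Subgroup.mem_centralizer_iff.mpr fun t ht => (hc t ht).symm⟩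
  exact hXV x hxX (le_rad inf_le_left hXn hXp hxX)

section Conjugate

variable {g : G} (hne : cj V g ≠ V) (hle : cj V g ≤ cr V)
include hne hle

theorem commK {k v : G} (hk : k ∈ cj V g) (hv : v ∈ V) : k * v = v * k := comm_V (hle hk) hv

theorem mem_W {w : G} (hw : w ∈ V ⊔ cj V g) : ∃ v ∈ V, ∃ k ∈ cj V g, v * k = w := by
  have h1 : w ∈ (V : Set G) * (cj V g : Set G) := by
    rw [← Subgroup.coe_mul_of_right_le_normalizer_left V (cj V g) (hle.trans cr_le)]
    exact hw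
  exact Set.mem_mul.mp h1

theorem decomp_unique {v v' k k' : G} (hv : v ∈ V) (hv' : v' ∈ V) (hk : k ∈ cj V g)
    (hk' : k' ∈ cj V g) (e : v * k = v' * k') : v = v' ∧ k = k' := by
  have h1 : v'⁻¹ * v = k' * k⁻¹ := by
    calc v'⁻¹ * v = v'⁻¹ * (v * k) * k⁻¹ := by group
      _ = _ := by rw [e]; group
  have h2 : v'⁻¹ * v = 1 := h.disjoint hne (by rw [h1]; exact mul_mem hk' (inv_mem hk))
    (mul_mem (inv_mem hv') hv)
  have h3 : v = v' := (inv_mul_eq_one.mp h2).symm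
  exact ⟨h3, by rw [h3] at e; exact mul_left_cancel e⟩

/-- A second conjugate in `cr V`, with no nontrivial element centralizing one of the first. -/
theorem exists_second : ∃ y, cj V y ≠ V ∧ cj V y ≤ cr V ∧
    ∀ a ∈ cj V y, a ≠ 1 → ∀ k ∈ cj V g, k ≠ 1 → a * k ≠ k * a := by
  obtain ⟨m, hm, hnc⟩ : ∃ m ∈ nor V, ∃ a ∈ cj V (m * g), ∃ k ∈ cj V g, a * k ≠ k * a := by
    by_contra hall
    push Not at hall
    let S : Set G := (V : Set G) ∪ {z | ∃ m ∈ nor V, z ∈ cj V (m * g)}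
    have hconj : ∀ m ∈ nor V, ∀ z, z ∈ cj V (m * g) → z ∈ cr V := fun m hm z hz => by
      rw [mem_cj_mul] at hz
      have := cr_conj hm (hle hz)
      simpa [mul_assoc] using this
    have hScr : S ⊆ cr V := by
      rintro z (hz | ⟨m, hm, hz⟩)
      · exact h.le_cr hz
      · exact hconj m hm z hz
    have hS : ∀ a ∈ S, ∀ b ∈ S, a * b = b * a := by
      rintro a (ha | ⟨m, hm, ha⟩) b hb
      · exact (comm_V (hScr hb) ha).symm
      rcases hb with hb | ⟨n, hn, hb⟩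
      · exact comm_V (hconj m hm a ha) hb
      rw [mem_cj_mul] at hb
      have ha' : n⁻¹ * a * n ∈ cj V (n⁻¹ * m * g) := by
        rw [mul_assoc n⁻¹, mem_cj_mul, mem_cj_mul] at *
        simpa [mul_assoc] using ha
      have := hall _ (mul_mem (inv_mem hn) hm) _ ha' _ hb
      have h2 := congrArg (fun w => n * w * n⁻¹) this
      simpa [mul_assoc] using h2
    have hcl : ∀ a ∈ Subgroup.closure S, ∀ b ∈ Subgroup.closure S, a * b = b * a := by
      intro a ha b hb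
      have h1 : Subgroup.closure S ≤ Subgroup.centralizer S := (Subgroup.closure_le _).mpr
        fun z hz => Subgroup.mem_centralizer_iff.mpr fun w hw => hS w hw z hz
      have h2 : Subgroup.closure S ≤ Subgroup.centralizer (Subgroup.closure S : Set G) :=
        (Subgroup.closure_le _).mpr fun z hz => Subgroup.mem_centralizer_iff.mpr fun w hw =>
          (Subgroup.mem_centralizer_iff.mp (h1 hw) z hz).symm
      exact (Subgroup.mem_centralizer_iff.mp (h2 ha) b hb).symm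
    have hA : Subgroup.closure S = V := by
      refine h.maxAb _ (fun v hv => Subgroup.subset_closure (Or.inl hv))
        (((Subgroup.closure_le _).mpr hScr).trans cr_le) hcl ?_
      intro n hn a ha
      have : Subgroup.closure S ≤ (Subgroup.closure S).comap (MulAut.conj n).toMonoidHom := by
        rw [Subgroup.closure_le]
        rintro z (hz | ⟨m, hm, hz⟩)
        · exact Subgroup.subset_closure (Or.inl ((Subgroup.mem_normalizer_iff.mp hn z).mp hz))
        · refine Subgroup.subset_closure (Or.inr ⟨n * m, mul_mem hn hm, ?_⟩)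
          show n * z * n⁻¹ ∈ _
          rw [mul_assoc n m g, mem_cj_mul]; simpa [mul_assoc] using hz
      exact this ha
    apply hne
    have hKV : cj V g ≤ V := fun k hk => hA ▸ Subgroup.subset_closure
      (Or.inr ⟨1, one_mem _, by rwa [one_mul]⟩)
    exact Subgroup.eq_of_le_of_card_ge hKV (card_cj V g).ge
  have hyne : cj V (m * g) ≠ V := fun e => hne (by
    have := cj_eq_cancel (y := 1) (e.trans (cj_one V).symm) m⁻¹
    rw [inv_mul_cancel_left, mul_one] at this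
    rw [this, ← mem_nor_iff]; exact inv_mem hm)
  have hyle : cj V (m * g) ≤ cr V := fun z hz => by
    rw [mem_cj_mul] at hz
    have := cr_conj hm (hle hz)
    simpa [mul_assoc] using this
  refine ⟨m * g, hyne, hyle, fun a ha ha1 k hk hk1 e => ?_⟩
  obtain ⟨a', ha', k', hk', hn⟩ := hnc
  have h1 : a * k' = k' * a := h.comm_all (hyle ha) hne hle hk hk1 e hk'
  exact hn (h.comm_all (hle hk') hyne hyle ha ha1 h1.symm ha').symm

/-- Every value is attained. -/
theorem exists_bracket {k v : G} (hk : k ∈ cj V g) (hk1 : k ≠ 1) (hv : v ∈ V) :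
    ∃ p ∈ cr V, ⁅p, k⁆ = v := by
  obtain ⟨y, hy1, hy2, hy3⟩ := h.exists_second hne hle
  obtain ⟨a, ha, ha1⟩ : ∃ a ∈ cj V y, a ≠ 1 := by
    by_contra hall
    push Not at hall
    have : cj V y = ⊥ := (Subgroup.eq_bot_iff_forall _).mpr hall
    have h1 := card_cj V y
    rw [this, Subgroup.card_bot] at h1
    refine hne (Subgroup.ext fun z => ?_)
    have hV1 : V = ⊥ := Subgroup.card_eq_one.mp h1.symm
    rw [mem_cj, hV1, Subgroup.mem_bot, Subgroup.mem_bot]
    exact ⟨fun e => by have := congrArg (fun t => g * t * g⁻¹) e; simpa [mul_assoc] using this,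
      fun e => by rw [e]; simp⟩
  obtain ⟨p, hp, e⟩ := h.surj (hle hk) hy1 hy2 ha (fun e => hy3 a ha ha1 k hk hk1 e.symm) hv
  exact ⟨p, hy2 hp, by rw [h.symm (hle hk) (hy2 hp)]; exact e⟩

theorem conj_W {p z : G} (hp : p ∈ cr V) (hz : z ∈ V ⊔ cj V g) : p * z * p⁻¹ ∈ V ⊔ cj V g := by
  obtain ⟨v, hv, k, hk, rfl⟩ := h.mem_W hne hle hz
  have e : p * (v * k) * p⁻¹ = v * ⁅p, k⁆ * k := by
    calc p * (v * k) * p⁻¹ = p * v * p⁻¹ * (p * k * p⁻¹ * k⁻¹) * k := by group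
      _ = _ := by rw [comm_V hp hv, mul_inv_cancel_right, commutatorElement_def]
  rw [e]
  exact mul_mem (Subgroup.mem_sup_left (mul_mem hv (h.comm_mem hp (hle hk))))
    (Subgroup.mem_sup_right hk)

theorem conjK_le {p : G} (hp : p ∈ cr V) : cj V (p * g) ≤ V ⊔ cj V g := by
  intro z hz
  rw [mem_cj_mul] at hz
  have := h.conj_W hne hle hp (Subgroup.mem_sup_right hz)
  simpa [mul_assoc] using this

/-- Every nontrivial element of `W` lies in `V` or in `p V^g` with `p ∈ cr V`. -/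
theorem covered {w : G} (hw : w ∈ V ⊔ cj V g) :
    w ∈ V ∨ ∃ p ∈ cr V, w ∈ cj V (p * g) := by
  obtain ⟨v, hv, k, hk, rfl⟩ := h.mem_W hne hle hw
  by_cases hk1 : k = 1
  · exact Or.inl (by rw [hk1, mul_one]; exact hv)
  obtain ⟨p, hp, hpk⟩ := h.exists_bracket hne hle hk hk1 hv
  refine Or.inr ⟨p, hp, ?_⟩
  rw [mem_cj_mul, ← hpk, commutatorElement_def]
  have : p⁻¹ * (p * k * p⁻¹ * k⁻¹ * k) * p = k := by group
  rw [this]; exact hk

/-- A conjugate meeting `W` nontrivially is `V` or `p V^g`. -/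
theorem eq_point {x w : G} (hx : w ∈ cj V x) (hw : w ∈ V ⊔ cj V g) (hw1 : w ≠ 1) :
    cj V x = V ∨ ∃ p ∈ cr V, cj V x = cj V (p * g) := by
  rcases h.covered hne hle hw with hV | ⟨p, hp, hpw⟩
  · exact Or.inl (h.ti x w hx hV hw1)
  · exact Or.inr ⟨p, hp, h.ti2 hx hpw hw1⟩

end Conjugate

end Ctx

end CfsgLib.TI.LargeRadical
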