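import Mathlib
import Cfsg.Agent.Lib.TI.LargeRadical

/-!
For `V` as in `Lib.TI.LargeRadical` and a conjugate `V^g ≠ V` inside `cr V`: `V ≤ (cr V)^g`.
-/

set_option autoImplicit false
set_option linter.style.haveILetI false
set_option linter.unusedSectionVars false

open scoped commutatorElement

namespace CfsgLib.TI.LargeRadical

variable {G : Type*} [Group G]

theorem conj_comm (g a b : G) : g⁻¹ * ⁅a, b⁆ * g = ⁅g⁻¹ * a * g, g⁻¹ * b * g⁆ := by
  simp [commutatorElement_def, mul_assoc]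

variable [Finite G] {V : Subgroup G} (h : Ctx V)
variable {g : G} (hne : cj V g ≠ V) (hle : cj V g ≤ cr V)
include h hne hle

namespace Ctx

theorem exists_ne_K : ∃ k ∈ cj V g, k ≠ 1 := by
  by_contra hall
  push Not at hall
  refine hne (Subgroup.eq_of_le_of_card_ge (fun z hz => by rw [hall z hz]; exact one_mem _) (card_cj V g).ge)

theorem exists_ne_V : ∃ v ∈ V, v ≠ 1 := by
  obtain ⟨k, hk, hk1⟩ := h.exists_ne_K hne hle
  refine ⟨_, mem_cj.mp hk, fun e => hk1 ?_⟩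
  have := congrArg (fun z => g * z * g⁻¹) e
  simpa [mul_assoc] using this

theorem K_le_C : cj V g ≤ Ps V g := fun _ hz => mem_Ps.mpr (h.le_cr (mem_cj.mp hz))

theorem commC_mem {y z : G} (hy : y ∈ Ps V g) (hz : z ∈ Ps V g) : ⁅y, z⁆ ∈ cj V g := by
  rw [mem_cj, conj_comm]
  exact h.comm_mem (mem_Ps.mp hy) (mem_Ps.mp hz)

theorem sqC_mem {y : G} (hy : y ∈ Ps V g) : y * y ∈ cj V g := by
  rw [mem_cj, show g⁻¹ * (y * y) * g = g⁻¹ * y * g * (g⁻¹ * y * g) by group]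
  exact h.sq_mem (mem_Ps.mp hy)

theorem centK {y k : G} (hy : y ∈ Ps V g) (hk : k ∈ cj V g) : y * k = k * y := by
  have := congrArg (fun z => g * z * g⁻¹) (comm_V (mem_Ps.mp hy) (mem_cj.mp hk))
  simpa [mul_assoc] using this

theorem centre_C {z : G} (hz : z ∈ Ps V g) (hc : ∀ t ∈ Ps V g, z * t = t * z) : z ∈ cj V g := by
  rw [mem_cj]
  refine h.central_mem (mem_Ps.mp hz) fun t ht => ?_
  have h1 : g * t * g⁻¹ ∈ Ps V g := mem_Ps.mpr (by simpa [mul_assoc] using ht)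
  have := congrArg (fun w => g⁻¹ * w * g) (hc _ h1)
  simpa [mul_assoc] using this

/-- Elements of `M` fix the conjugate `V^g` if they centralize it. -/
theorem fix_of_cent {x : G} (hx : ∀ k ∈ cj V g, x * k = k * x) : cj V (x * g) = cj V g := by
  obtain ⟨k, hk, hk1⟩ := h.exists_ne_K hne hle
  exact h.cj_of_comm hk hk1 (hx k hk)

theorem normC {n z : G} (hn : cj V (n * g) = cj V g) (hz : z ∈ Ps V g) : n * z * n⁻¹ ∈ Ps V g := by
  have h1 : z ∈ Ps V g := hz
  rw [← h.Ps_eq hn, mem_Ps]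
  rw [mem_Ps] at h1
  simpa [mul_assoc] using h1

theorem cent_C {x : G} (hfix : cj V (x * g) = cj V g) (hx : ∀ t ∈ Ps V g, x * t = t * x) :
    x ∈ cj V g := by
  rw [mem_cj]
  refine h.cent_cr ?_ fun t ht => ?_
  · rw [mem_nor_iff]
    have := cj_eq_cancel hfix g⁻¹
    rw [inv_mul_cancel, cj_one, ← mul_assoc] at this
    exact this
  · have h1 : g * t * g⁻¹ ∈ Ps V g := mem_Ps.mpr (by simpa [mul_assoc] using ht)
    have := congrArg (fun w => g⁻¹ * w * g) (hx _ h1)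
    simpa [mul_assoc] using this

theorem normC_V {v z : G} (hv : v ∈ V) (hz : z ∈ Ps V g) : v * z * v⁻¹ ∈ Ps V g :=
  h.normC hne hle (h.fix_of_cent hne hle fun _ hk => (h.commK hne hle hk hv).symm) hz

theorem brk_mem_C {v z : G} (hv : v ∈ V) (hz : z ∈ Ps V g) : ⁅v, z⁆ ∈ Ps V g := by
  rw [commutatorElement_def]
  exact mul_mem (h.normC_V hne hle hv hz) (inv_mem hz)

theorem symmC {y z : G} (hy : y ∈ Ps V g) (hz : z ∈ Ps V g) : ⁅z, y⁆ = ⁅y, z⁆ := by
  rw [← commutatorElement_inv, h.inv_cj (h.commC_mem hne hle hy hz)]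

theorem mul_leftC {p q r : G} (hp : p ∈ Ps V g) (hq : q ∈ Ps V g) (hr : r ∈ Ps V g) :
    ⁅p * q, r⁆ = ⁅p, r⁆ * ⁅q, r⁆ := by
  have h1 := h.commC_mem hne hle hq hr
  calc ⁅p * q, r⁆ = p * ⁅q, r⁆ * p⁻¹ * ⁅p, r⁆ := by simp [commutatorElement_def, mul_assoc]
    _ = _ := by
      rw [h.centK hne hle hp h1, mul_inv_cancel_right,
        h.comm_cj h1 (h.commC_mem hne hle hp hr)]

theorem mul_rightC {p q r : G} (hp : p ∈ Ps V g) (hq : q ∈ Ps V g) (hr : r ∈ Ps V g) :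
    ⁅r, p * q⁆ = ⁅r, p⁆ * ⁅r, q⁆ := by
  rw [← h.symmC hne hle hr (mul_mem hp hq), h.mul_leftC hne hle hp hq hr,
    h.symmC hne hle hr hp, h.symmC hne hle hr hq]

theorem inv_leftC {p r : G} (hp : p ∈ Ps V g) (hr : r ∈ Ps V g) : ⁅p⁻¹, r⁆ = ⁅p, r⁆ := by
  have h1 := h.mul_leftC hne hle (inv_mem hp) hp hr
  rw [inv_mul_cancel, commutatorElement_one_left] at h1
  rw [eq_comm, mul_eq_one_iff_eq_inv, h.inv_cj (h.commC_mem hne hle hp hr)] at h1
  exact h1

section NotLe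

variable (hV : ¬ V ≤ Ps V g)
include hV

/-- An element of `(cr V)^g` normalizing `W` lies in `M`. -/
theorem mem_nor_of_normW {y : G} (hy : y ∈ Ps V g)
    (hyW : ∀ z ∈ V ⊔ cj V g, y * z * y⁻¹ ∈ V ⊔ cj V g) : y ∈ nor V := by
  classical
  rw [mem_nor_iff]
  by_contra hyne
  obtain ⟨v, hv, hv1⟩ := h.exists_ne_V hne hle
  have h1 : y * v * y⁻¹ ∈ cj V y := mem_cj.mpr (by simpa [mul_assoc] using hv)
  have h2 : y * v * y⁻¹ ≠ 1 := fun e => hv1 (by
    have := congrArg (fun z => y⁻¹ * z * y) e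
    simpa [mul_assoc] using this)
  rcases h.eq_point hne hle h1 (hyW _ (Subgroup.mem_sup_left hv)) h2 with e | ⟨p, hp, e⟩
  · exact hyne e
  have e2 := cj_eq_cancel e p⁻¹
  rw [inv_mul_cancel_left] at e2
  have hC : Ps V (p⁻¹ * y) = Ps V g := h.Ps_eq e2
  apply hV
  intro w hw
  rw [← hC, mem_Ps]
  have hmem : (p⁻¹ * y)⁻¹ * w * (p⁻¹ * y) ∈ V ⊔ cj V g := by
    have h3 : ∀ z ∈ V ⊔ cj V g, y⁻¹ * z * y ∈ V ⊔ cj V g := by
      intro z hz
      -- conjugation by `y` is a bijection of the finite set `W`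
      let f : ↥(V ⊔ cj V g) → ↥(V ⊔ cj V g) := fun t => ⟨y * t * y⁻¹, hyW t t.2⟩
      have hf : Function.Injective f := fun a b e =>
        Subtype.ext (mul_left_cancel (mul_right_cancel (congrArg Subtype.val e)))
      obtain ⟨t, ht⟩ := (Finite.injective_iff_surjective.mp hf) ⟨z, hz⟩
      have : y * (t : G) * y⁻¹ = z := congrArg Subtype.val ht
      rw [← this]; simp [mul_assoc]
    have h4 := h3 _ (h.conj_W hne hle hp (Subgroup.mem_sup_left hw))
    simpa [mul_assoc] using h4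
  exact (sup_le h.le_cr hle) hmem

/-- (i) -/
theorem mem_nor_of_brk {y v : G} (hy : y ∈ Ps V g) (hv : v ∈ V) (hv1 : v ≠ 1)
    (hk : ⁅y, v⁆ ∈ cj V g) : y ∈ nor V := by
  have hW : y * v * y⁻¹ ∈ V ⊔ cj V g := by
    rw [show y * v * y⁻¹ = ⁅y, v⁆ * v by simp [commutatorElement_def]]
    exact mul_mem (Subgroup.mem_sup_right hk) (Subgroup.mem_sup_left hv)
  have h1 : y * v * y⁻¹ ∈ cj V y := mem_cj.mpr (by simpa [mul_assoc] using hv)
  have h2 : y * v * y⁻¹ ≠ 1 := fun e => hv1 (by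
    have := congrArg (fun z => y⁻¹ * z * y) e
    simpa [mul_assoc] using this)
  rcases h.eq_point hne hle h1 hW h2 with e | ⟨p, hp, e⟩
  · exact mem_nor_iff.mpr e
  refine h.mem_nor_of_normW hne hle hV hy fun z hz => ?_
  obtain ⟨v', hv', k, hk', rfl⟩ := h.mem_W hne hle hz
  have h3 : y * v' * y⁻¹ ∈ V ⊔ cj V g := h.conjK_le hne hle hp
    (e ▸ mem_cj.mpr (by simpa [mul_assoc] using hv'))
  rw [show y * (v' * k) * y⁻¹ = y * v' * y⁻¹ * (y * k * y⁻¹) by group,
    h.centK hne hle hy hk', mul_inv_cancel_right]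
  exact mul_mem h3 (Subgroup.mem_sup_right hk')

theorem inf_bot {v : G} (hv : v ∈ V) (hvC : v ∈ Ps V g) : v = 1 := by
  by_contra hv1
  refine hv1 (h.disjoint hne (h.centre_C hne hle hvC fun t ht => ?_) hv)
  have h1 : ⁅t, v⁆ ∈ cj V g := h.commC_mem hne hle ht hvC
  have hn := h.mem_nor_of_brk hne hle hV ht hv hv1 h1
  have h2 : ⁅t, v⁆ ∈ V := mul_mem ((Subgroup.mem_normalizer_iff.mp hn v).mp hv) (V.inv_mem hv)
  exact (commutatorElement_eq_one_iff_mul_comm.mp (h.disjoint hne h1 h2)).symm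

theorem not_le_nor : ¬ Ps V g ≤ nor V := by
  intro hl
  obtain ⟨v, hv, hv1⟩ := h.exists_ne_V hne hle
  refine hv1 (h.disjoint hne (h.cent_C hne hle (h.fix_of_cent hne hle
    fun _ hk => (h.commK hne hle hk hv).symm) fun t ht => ?_) hv)
  have h2 : ⁅t, v⁆ ∈ V := mul_mem ((Subgroup.mem_normalizer_iff.mp (hl ht) v).mp hv) (V.inv_mem hv)
  have h3 : ⁅t, v⁆ ∈ Ps V g := by
    rw [← commutatorElement_inv]; exact inv_mem (h.brk_mem_C hne hle hv ht)
  exact (commutatorElement_eq_one_iff_mul_comm.mp (h.inf_bot hne hle hV h2 h3)).symm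

/-- `R = C ∩ M` centralizes `V`. -/
theorem R_comm {r v : G} (hr : r ∈ Ps V g) (hrn : r ∈ nor V) (hv : v ∈ V) : r * v = v * r := by
  have h2 : ⁅r, v⁆ ∈ V := mul_mem ((Subgroup.mem_normalizer_iff.mp hrn v).mp hv) (V.inv_mem hv)
  have h3 : ⁅r, v⁆ ∈ Ps V g := by
    rw [← commutatorElement_inv]; exact inv_mem (h.brk_mem_C hne hle hv hr)
  exact commutatorElement_eq_one_iff_mul_comm.mp (h.inf_bot hne hle hV h2 h3)

/-- An element of `cr V` centralizing all elements that centralize `V^g` lies in `W`. -/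
theorem mem_W_of_cent {w : G} (hw : w ∈ cr V)
    (hc : ∀ p ∈ cr V, (∀ k ∈ cj V g, p * k = k * p) → w * p = p * w) : w ∈ V ⊔ cj V g := by
  obtain ⟨y, hy1, hy2, hy3⟩ := h.exists_second hne hle
  obtain ⟨a₀, ha₀, ha₀1⟩ : ∃ a ∈ cj V y, a ≠ 1 := by
    by_contra hall
    push Not at hall
    exact hy1 (Subgroup.eq_of_le_of_card_ge (fun z hz => by rw [hall z hz]; exact one_mem _)
      (card_cj V y).ge)
  obtain ⟨k₀, hk₀, hk₀1⟩ := h.exists_ne_K hne hle
  obtain ⟨k, hk, e⟩ := h.surj (hy2 ha₀) hne hle hk₀ (hy3 a₀ ha₀ ha₀1 k₀ hk₀ hk₀1)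
    (h.comm_mem (hy2 ha₀) hw)
  have hwk : w * k ∈ cr V := mul_mem hw (hle hk)
  have h1 : (w * k) * a₀ = a₀ * (w * k) := by
    have : ⁅a₀, w * k⁆ = 1 := by
      rw [h.mul_right hw (hle hk) (hy2 ha₀), e, h.sq _ (h.comm_mem (hy2 ha₀) hw)]
    exact (commutatorElement_eq_one_iff_mul_comm.mp this).symm
  have hcent : w * k ∈ V := by
    refine h.central_mem hwk fun p hp => ?_
    obtain ⟨a, ha, ea⟩ : ∃ a ∈ cj V y, ⁅k₀, a⁆ = ⁅k₀, p⁆ := by
      refine h.surj (hle hk₀) hy1 hy2 ha₀ ?_ (h.comm_mem (hle hk₀) hp)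
      exact fun e' => hy3 a₀ ha₀ ha₀1 k₀ hk₀ hk₀1 e'.symm
    have hp0 : ∀ k' ∈ cj V g, (a * p) * k' = k' * (a * p) := by
      intro k' hk'
      refine h.comm_all (mul_mem (hy2 ha) hp) hne hle hk₀ hk₀1 ?_ hk'
      refine (commutatorElement_eq_one_iff_mul_comm.mp ?_).symm
      rw [h.mul_right (hy2 ha) hp (hle hk₀), ea, h.sq _ (h.comm_mem (hle hk₀) hp)]
    have h2 : (w * k) * (a * p) = (a * p) * (w * k) := by
      have e1 := hc _ (mul_mem (hy2 ha) hp) hp0
      calc (w * k) * (a * p) = w * (k * (a * p)) := mul_assoc _ _ _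
        _ = w * ((a * p) * k) := by rw [hp0 k hk]
        _ = (a * p) * w * k := by rw [← mul_assoc, e1]
        _ = _ := mul_assoc _ _ _
    have h3 : (w * k) * a = a * (w * k) := h.comm_all hwk hy1 hy2 ha₀ ha₀1 h1 ha
    have h4 : Commute (w * k) (a⁻¹ * (a * p)) :=
      (show Commute (w * k) a from h3).inv_right.mul_right h2
    rwa [inv_mul_cancel_left] at h4
  have : w = (w * k) * k := by rw [mul_assoc, h.sq_cj hk, mul_one]
  rw [this]
  exact mul_mem (Subgroup.mem_sup_left hcent) (Subgroup.mem_sup_right hk)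

theorem cap_eq {i : G} (hi : i ∈ cr V) (hiC : i ∈ Ps V g) : i ∈ cj V g := by
  have hW := h.mem_W_of_cent hne hle hV hi fun p hp hpk => by
    refine commutatorElement_eq_one_iff_mul_comm.mp (h.inf_bot hne hle hV (h.comm_mem hi hp) ?_)
    rw [commutatorElement_def, mul_assoc i p, mul_assoc]
    exact mul_mem hiC (h.normC hne hle (h.fix_of_cent hne hle hpk) (inv_mem hiC))
  obtain ⟨v, hv, k, hk, rfl⟩ := h.mem_W hne hle hW
  have : v ∈ Ps V g := by
    have := mul_mem hiC (inv_mem (h.K_le_C hne hle hk))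
    rwa [mul_inv_cancel_right] at this
  rw [h.inf_bot hne hle hV hv this, one_mul]
  exact hk

/-- (iii) the centralizer of `V^g` in `cr V` is elementary abelian. -/
theorem sq_cent {a : G} (ha : a ∈ cr V) (hak : ∀ k ∈ cj V g, a * k = k * a) : a * a = 1 := by
  have hfix := h.fix_of_cent hne hle hak
  have haR : ∀ {r : G}, r ∈ Ps V g → r ∈ nor V → ⁅a, r⁆ ∈ cj V g := by
    intro r hr hrn
    refine h.cap_eq hne hle hV ?_ ?_
    · rw [commutatorElement_def, mul_assoc a r, mul_assoc]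
      exact mul_mem ha (cr_conj hrn (inv_mem ha))
    · rw [commutatorElement_def]
      exact mul_mem (h.normC hne hle hfix hr) (inv_mem hr)
  -- `[a, y] ∈ M` for all `y ∈ C`
  have hd : ∀ {y : G}, y ∈ Ps V g → ⁅a, y⁆ ∈ Ps V g ∧ ⁅a, y⁆ ∈ nor V := by
    intro y hy
    set d := ⁅a, y⁆ with hddef
    have hdC : d ∈ Ps V g := by
      rw [hddef, commutatorElement_def]
      exact mul_mem (h.normC hne hle hfix hy) (inv_mem hy)
    refine ⟨hdC, ?_⟩
    have hay : a * y * a⁻¹ ∈ Ps V g := h.normC hne hle hfix hy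
    have hperp : ∀ {r : G}, r ∈ Ps V g → r ∈ nor V → ⁅d, r⁆ = 1 := by
      intro r hr hrn
      have hr' : a⁻¹ * r * a ∈ Ps V g := by
        have := h.normC hne hle (n := a⁻¹) (h.fix_of_cent hne hle fun k hk =>
          (show Commute a k from hak k hk).inv_left) hr
        rwa [inv_inv] at this
      have hk0 : a⁻¹ * r * a * r⁻¹ ∈ cj V g := by
        have h1 := haR hr hrn
        have e : a⁻¹ * r * a * r⁻¹ = a⁻¹ * ⁅a, r⁆⁻¹ * a := by
          simp [commutatorElement_def, mul_assoc]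
        rw [e]
        have h2 : Commute a ⁅a, r⁆⁻¹ := hak _ (inv_mem h1)
        rw [h2.inv_left.eq, inv_mul_cancel_right]
        exact inv_mem h1
      have e1 : ⁅a * y * a⁻¹, r⁆ = ⁅y, r⁆ := by
        have e2 : ⁅a * y * a⁻¹, r⁆ = a * ⁅y, a⁻¹ * r * a⁆ * a⁻¹ := by
          simp [commutatorElement_def, mul_assoc]
        have h2 : ⁅y, a⁻¹ * r * a * r⁻¹ * r⁆ = ⁅y, r⁆ := by
          rw [h.mul_rightC hne hle (h.K_le_C hne hle hk0) hr hy,
            commutatorElement_eq_one_iff_mul_comm.mpr (h.centK hne hle hy hk0), one_mul]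
        rw [inv_mul_cancel_right] at h2
        rw [e2, h2, hak _ (h.commC_mem hne hle hy hr), mul_inv_cancel_right]
      rw [hddef, commutatorElement_def a y, h.mul_leftC hne hle hay (inv_mem hy) hr,
        e1, h.inv_leftC hne hle hy hr, h.sq_cj (h.commC_mem hne hle hy hr)]
    obtain ⟨v, hv, hv1⟩ := h.exists_ne_V hne hle
    have he : ⁅v, d⁆ ∈ Ps V g := h.brk_mem_C hne hle hv hdC
    have hvd : v * d * v⁻¹ ∈ Ps V g := h.normC_V hne hle hv hdC
    refine h.mem_nor_of_brk hne hle hV hdC hv hv1 ?_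
    rw [← commutatorElement_inv]
    refine inv_mem (h.centre_C hne hle he fun w hw => commutatorElement_eq_one_iff_mul_comm.mp ?_)
    have hc : ⁅v, w⁆ ∈ Ps V g := h.brk_mem_C hne hle hv hw
    have hcn : ⁅v, w⁆ ∈ nor V := by
      refine h.mem_nor_of_brk hne hle hV hc hv hv1 ?_
      have e : ⁅⁅v, w⁆, v⁆ = ⁅v, w⁆ * ⁅v, w⁆ := by
        have hvi : v⁻¹ = v := h.inv_eq hv
        simp only [commutatorElement_def, mul_inv_rev, inv_inv, hvi, mul_assoc]
        rw [h.sq v hv, mul_one]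
      rw [e]; exact h.sqC_mem hne hle hc
    have e1 : ⁅v * d * v⁻¹, w⁆ = ⁅d, w⁆ := by
      have e2 : ⁅v * d * v⁻¹, w⁆ = v * ⁅d, v⁻¹ * w * v⁆ * v⁻¹ := by
        simp [commutatorElement_def, mul_assoc]
      have e3 : v⁻¹ * w * v = ⁅v, w⁆ * w := by
        simp only [commutatorElement_def, h.inv_eq hv, inv_mul_cancel_right]
      rw [e2, e3, h.mul_rightC hne hle hc hw hdC, hperp hc hcn, one_mul,
        ← (h.commK hne hle (h.commC_mem hne hle hdC hw) hv), mul_inv_cancel_right]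
    rw [commutatorElement_def v d, h.mul_leftC hne hle hvd (inv_mem hdC) hw, e1,
      h.inv_leftC hne hle hdC hw, h.sq_cj (h.commC_mem hne hle hdC hw)]
  by_contra hsq
  refine h.not_le_nor hne hle hV fun y hy =>
    h.mem_nor_of_brk hne hle hV hy (h.sq_mem ha) hsq ?_
  obtain ⟨hdC, hdn⟩ := hd hy
  have h1 : ⁅a, ⁅a, y⁆⁆ ∈ cj V g := haR hdC hdn
  have e : ⁅a * a, y⁆ = ⁅a, ⁅a, y⁆⁆ * (⁅a, y⁆ * ⁅a, y⁆) := by
    simp [commutatorElement_def, mul_assoc]
  rw [← commutatorElement_inv, e]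
  exact inv_mem (mul_mem h1 (h.sqC_mem hne hle hdC))

theorem cent_le_W {a : G} (ha : a ∈ cr V) (hak : ∀ k ∈ cj V g, a * k = k * a) :
    a ∈ V ⊔ cj V g := by
  refine h.mem_W_of_cent hne hle hV ha fun p hp hpk => ?_
  have h1 := h.sq_cent hne hle hV ha hak
  have h2 := h.sq_cent hne hle hV hp hpk
  have h3 := h.sq_cent hne hle hV (mul_mem ha hp) fun k hk =>
    ((show Commute a k from hak k hk).mul_left (hpk k hk)).eq
  calc a * p = (a * p)⁻¹ := eq_inv_of_mul_eq_one_left h3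
    _ = p * a := by rw [mul_inv_rev, inv_eq_of_mul_eq_one_right h1, inv_eq_of_mul_eq_one_right h2]

theorem R_exp {r : G} (hr : r ∈ Ps V g) (hrn : r ∈ nor V) : r * r = 1 := by
  have hrW : ∀ z ∈ V ⊔ cj V g, r * z = z * r := by
    intro z hz
    obtain ⟨v, hv, k, hk, rfl⟩ := h.mem_W hne hle hz
    exact (show Commute r v from h.R_comm hne hle hV hr hrn hv).mul_right (h.centK hne hle hr hk)
  refine h.inf_bot hne hle hV (h.cent_cr (mul_mem hrn hrn) fun p hp => ?_) (mul_mem hr hr)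
  have hrp : r * p * r⁻¹ ∈ cr V := cr_conj hrn hp
  have hq : ⁅r, p⁆ ∈ cr V := by
    rw [commutatorElement_def]; exact mul_mem hrp (inv_mem hp)
  have hqK : ∀ k ∈ cj V g, ⁅r, p⁆ * k = k * ⁅r, p⁆ := by
    intro k hk
    refine commutatorElement_eq_one_iff_mul_comm.mp ?_
    have e1 : ⁅r * p * r⁻¹, k⁆ = ⁅p, k⁆ := by
      have e2 : r * ⁅p, k⁆ * r⁻¹ = ⁅r * p * r⁻¹, r * k * r⁻¹⁆ := by
        simp [commutatorElement_def, mul_assoc]
      rw [h.centK hne hle hr hk, mul_inv_cancel_right] at e2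
      rw [← e2, h.R_comm hne hle hV hr hrn (h.comm_mem hp (hle hk)), mul_inv_cancel_right]
    have e3 : ⁅⁅r, p⁆, k⁆ = ⁅r * p * r⁻¹, k⁆ * ⁅p⁻¹, k⁆ := by
      rw [commutatorElement_def r p]
      exact h.mul_left hrp (inv_mem hp) (hle hk)
    have e4 := h.mul_left (inv_mem hp) hp (hle hk)
    rw [inv_mul_cancel, commutatorElement_one_left, h.comm _ (h.comm_mem (inv_mem hp) (hle hk)) _
      (h.comm_mem hp (hle hk))] at e4
    rw [e3, e1, ← e4]
  have hqW := h.cent_le_W hne hle hV hq hqK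
  have hqq : ⁅r, p⁆ * ⁅r, p⁆ = 1 := h.sq_cent hne hle hV hq hqK
  have hc : r * ⁅r, p⁆ = ⁅r, p⁆ * r := hrW _ hqW
  calc r * r * p = r * (⁅r, p⁆ * p * r) := by simp [commutatorElement_def, mul_assoc]
    _ = ⁅r, p⁆ * (r * p * r⁻¹) * (r * r) := by
      rw [← mul_assoc r, ← mul_assoc r, hc]; group
    _ = ⁅r, p⁆ * (⁅r, p⁆ * p) * (r * r) := by simp [commutatorElement_def, mul_assoc]
    _ = _ := by rw [← mul_assoc ⁅r, p⁆ ⁅r, p⁆, hqq, one_mul]

theorem card_cr_eq : Nat.card (cr V) = Nat.card V * (Nat.card V * Nat.card V) := by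
  obtain ⟨y, hy1, hy2, hy3⟩ := h.exists_second hne hle
  obtain ⟨k₀, hk₀, hk₀1⟩ := h.exists_ne_K hne hle
  let f : cj V y × V × cj V g → cr V := fun t =>
    ⟨(t.1 : G) * ((t.2.1 : G) * t.2.2), mul_mem (hy2 t.1.2) (mul_mem (h.le_cr t.2.1.2) (hle t.2.2.2))⟩
  have hf : Function.Bijective f := by
    constructor
    · rintro ⟨⟨a, ha⟩, ⟨v, hv⟩, ⟨k, hk⟩⟩ ⟨⟨a', ha'⟩, ⟨v', hv'⟩, ⟨k', hk'⟩⟩ e
      have e' : a * (v * k) = a' * (v' * k') := congrArg Subtype.val e
      have haa : a' = a := by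
        by_contra hne'
        have h1 : a'⁻¹ * a ≠ 1 := fun e1 => hne' (inv_mul_eq_one.mp e1)
        refine hy3 _ (mul_mem (inv_mem ha') ha) h1 k₀ hk₀ hk₀1 ?_
        have e2 : a'⁻¹ * a = v' * k' * (v * k)⁻¹ := by
          calc a'⁻¹ * a = a'⁻¹ * (a * (v * k)) * (v * k)⁻¹ := by group
            _ = _ := by rw [e']; group
        rw [e2]
        have c1 : ∀ v ∈ V, Commute v k₀ := fun v hv => (h.commK hne hle hk₀ hv).symm
        have c2 : ∀ k ∈ cj V g, Commute k k₀ := fun k hk => h.comm_cj hk hk₀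
        exact ((c1 v' hv').mul_left (c2 k' hk')).mul_left ((c1 v hv).mul_left (c2 k hk)).inv_left
      subst haa
      obtain ⟨r1, r2⟩ := h.decomp_unique hne hle hv hv' hk hk' (mul_left_cancel e')
      subst r1 r2
      rfl
    · rintro ⟨p, hp⟩
      obtain ⟨a₀, ha₀, ha₀1⟩ : ∃ a ∈ cj V y, a ≠ 1 := by
        by_contra hall
        push Not at hall
        exact hy1 (Subgroup.eq_of_le_of_card_ge (fun z hz => by rw [hall z hz]; exact one_mem _)
          (card_cj V y).ge)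
      obtain ⟨a, ha, ea⟩ : ∃ a ∈ cj V y, ⁅k₀, a⁆ = ⁅k₀, p⁆ := by
        refine h.surj (hle hk₀) hy1 hy2 ha₀ ?_ (h.comm_mem (hle hk₀) hp)
        exact fun e' => hy3 a₀ ha₀ ha₀1 k₀ hk₀ hk₀1 e'.symm
      have hp0 : ∀ k' ∈ cj V g, (a * p) * k' = k' * (a * p) := by
        intro k' hk'
        refine h.comm_all (mul_mem (hy2 ha) hp) hne hle hk₀ hk₀1 ?_ hk'
        refine (commutatorElement_eq_one_iff_mul_comm.mp ?_).symm
        rw [h.mul_right (hy2 ha) hp (hle hk₀), ea, h.sq _ (h.comm_mem (hle hk₀) hp)]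
      obtain ⟨v, hv, k, hk, e⟩ :=
        h.mem_W hne hle (h.cent_le_W hne hle hV (mul_mem (hy2 ha) hp) hp0)
      refine ⟨(⟨a, ha⟩, ⟨v, hv⟩, ⟨k, hk⟩), Subtype.ext ?_⟩
      show a * (v * k) = p
      rw [e, ← mul_assoc, h.sq_cj ha, one_mul]
  rw [← Nat.card_congr (Equiv.ofBijective f hf), Nat.card_prod, Nat.card_prod, card_cj, card_cj]

/-- Every element of `cr V` outside `V` has all of `V` as its commutators. -/
theorem full_brk {c : G} (hc : c ∈ cr V) (hcV : c ∉ V) {v : G} (hv : v ∈ V) :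
    ∃ p ∈ cr V, ⁅c, p⁆ = v := by
  by_cases hK : ∀ k ∈ cj V g, c * k = k * c
  · obtain ⟨v', hv', k, hk, e⟩ := h.mem_W hne hle (h.cent_le_W hne hle hV hc hK)
    have hk1 : k ≠ 1 := fun e1 => hcV (by rw [← e, e1, mul_one]; exact hv')
    obtain ⟨p, hp, hpk⟩ := h.exists_bracket hne hle hk hk1 hv
    refine ⟨p, hp, ?_⟩
    rw [← e, h.mul_left (h.le_cr hv') (hle hk) hp,
      commutatorElement_eq_one_iff_mul_comm.mpr (comm_V hp hv').symm, one_mul, h.symm hp (hle hk)]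
    exact hpk
  · push Not at hK
    obtain ⟨k₀, hk₀, hne'⟩ := hK
    obtain ⟨k, hk, e⟩ := h.surj hc hne hle hk₀ hne' hv
    exact ⟨k, hle hk, e⟩

theorem false_of_not_le : False := by
  classical
  obtain ⟨v₀, hv₀, hv₀1⟩ := h.exists_ne_V hne hle
  obtain ⟨y, hy, hyn⟩ := SetLike.not_le_iff_exists.mp (h.not_le_nor hne hle hV)
  set c := ⁅v₀, y⁆ with hc
  have hcC : c ∈ Ps V g := h.brk_mem_C hne hle hv₀ hy
  have hnor : ∀ {v w : G}, v ∈ V → v ≠ 1 → w ∈ Ps V g → ⁅v, w⁆ ∈ nor V := by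
    intro v w hv hv1 hw
    have hd := h.brk_mem_C hne hle hv hw
    refine h.mem_nor_of_brk hne hle hV hd hv hv1 ?_
    have e : ⁅⁅v, w⁆, v⁆ = ⁅v, w⁆ * ⁅v, w⁆ := by
      have hvi : v⁻¹ = v := h.inv_eq hv
      simp only [commutatorElement_def, mul_inv_rev, inv_inv, hvi, mul_assoc]
      rw [h.sq v hv, mul_one]
    rw [e]; exact h.sqC_mem hne hle hd
  have hcn : c ∈ nor V := hnor hv₀ hv₀1 hy
  have hcK : c ∉ cj V g := fun hk => hyn (h.mem_nor_of_brk hne hle hV hy hv₀ hv₀1 (by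
    rw [← commutatorElement_inv]; exact inv_mem hk))
  have hcc : c * c = 1 := h.R_exp hne hle hV hcC hcn
  -- `y` centralizes `c`
  have hyc : y * c = c * y := by
    have h1 : c * y = v₀ * y * v₀⁻¹ := by simp [hc, commutatorElement_def, mul_assoc]
    have h2 : (c * y) * (c * y) = y * y := by
      rw [h1, show v₀ * y * v₀⁻¹ * (v₀ * y * v₀⁻¹) = v₀ * (y * y) * v₀⁻¹ by group,
        ← h.commK hne hle (h.sqC_mem hne hle hy) hv₀, mul_inv_cancel_right]
    have h3 : c * y * c = y := mul_right_cancel (b := y) (by rw [← h2]; group)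
    calc y * c = c * y * c * c := by rw [h3]
      _ = _ := by rw [mul_assoc, hcc, mul_one]
  -- the centralizer of `c` in `C`
  set Cc := Ps V g ⊓ Subgroup.centralizer ({c} : Set G) with hCc
  have hcard : Nat.card Cc ≤ Nat.card V * Nat.card V := by
    set c' := g⁻¹ * c * g with hc'
    have hc'cr : c' ∈ cr V := mem_Ps.mp hcC
    have hc'V : c' ∉ V := fun e => hcK (mem_cj.mpr e)
    let φ : cr V →* V :=
      { toFun := fun p => ⟨⁅c', (p : G)⁆, h.comm_mem hc'cr p.2⟩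
        map_one' := Subtype.ext (commutatorElement_one_right _)
        map_mul' := fun a b => Subtype.ext (h.mul_right a.2 b.2 hc'cr) }
    have hφ : Function.Surjective φ := fun ⟨v, hv⟩ => by
      obtain ⟨p, hp, e⟩ := h.full_brk hne hle hV hc'cr hc'V hv
      exact ⟨⟨p, hp⟩, Subtype.ext e⟩
    have h1 := φ.ker.card_mul_index
    rw [Subgroup.index_ker, MonoidHom.range_eq_top.mpr hφ, Subgroup.card_top,
      h.card_cr_eq hne hle hV] at h1
    have h2 : Nat.card φ.ker = Nat.card V * Nat.card V :=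
      Nat.eq_of_mul_eq_mul_right (Nat.card_pos (α := V)) (by rw [h1]; ring)
    rw [← h2]
    refine Nat.card_le_card_of_injective (fun z => (⟨⟨g⁻¹ * (z : G) * g,
      mem_Ps.mp (Subgroup.mem_inf.mp z.2).1⟩, ?_⟩ : φ.ker)) ?_
    · refine MonoidHom.mem_ker.mpr (Subtype.ext ?_)
      show ⁅c', g⁻¹ * (z : G) * g⁆ = 1
      rw [hc', ← conj_comm, commutatorElement_eq_one_iff_mul_comm.mpr
        (Subgroup.mem_centralizer_singleton_iff.mp (Subgroup.mem_inf.mp z.2).2).symm]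
      group
    · intro a b e
      have : g⁻¹ * (a : G) * g = g⁻¹ * (b : G) * g := congrArg (fun t : φ.ker => (((t : cr V)) : G)) e
      exact Subtype.ext (mul_left_cancel (mul_right_cancel this))
  set R := Ps V g ⊓ nor V with hR
  have hRexp : ∀ r ∈ R, r * r = 1 := fun r hr =>
    h.R_exp hne hle hV (Subgroup.mem_inf.mp hr).1 (Subgroup.mem_inf.mp hr).2
  have hRC : R < Cc := by
    refine lt_of_le_of_ne (fun r hr => Subgroup.mem_inf.mpr ⟨(Subgroup.mem_inf.mp hr).1,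
      Subgroup.mem_centralizer_singleton_iff.mpr ?_⟩) fun e => hyn ?_
    · have hcR : c ∈ R := Subgroup.mem_inf.mpr ⟨hcC, hcn⟩
      have h3 := hRexp _ (mul_mem hr hcR)
      calc r * c = (r * c)⁻¹ := eq_inv_of_mul_eq_one_left h3
        _ = c * r := by
          rw [mul_inv_rev, inv_eq_of_mul_eq_one_right (hRexp r hr), inv_eq_of_mul_eq_one_right hcc]
    · have : y ∈ Cc := Subgroup.mem_inf.mpr ⟨hy, Subgroup.mem_centralizer_singleton_iff.mpr hyc⟩
      rw [← e] at this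
      exact (Subgroup.mem_inf.mp this).2
  have hRge : Nat.card V * Nat.card V ≤ Nat.card R := by
    have hmem : ∀ v ∈ V, ⁅v, y⁆ ∈ R := by
      intro v hv
      refine Subgroup.mem_inf.mpr ⟨h.brk_mem_C hne hle hv hy, ?_⟩
      by_cases hv1 : v = 1
      · rw [hv1, commutatorElement_one_left]; exact one_mem _
      · exact hnor hv hv1 hy
    let f : V × cj V g → R := fun t => ⟨⁅(t.1 : G), y⁆ * t.2, mul_mem (hmem t.1 t.1.2)
      (Subgroup.mem_inf.mpr ⟨h.K_le_C hne hle t.2.2, (hle.trans cr_le) t.2.2⟩)⟩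
    have hf : Function.Injective f := by
      rintro ⟨⟨v, hv⟩, ⟨k, hk⟩⟩ ⟨⟨v', hv'⟩, ⟨k', hk'⟩⟩ e
      have e' : ⁅v, y⁆ * k = ⁅v', y⁆ * k' := congrArg Subtype.val e
      obtain ⟨hv'C, hv'n⟩ := Subgroup.mem_inf.mp (hmem v' hv')
      have e2 : ⁅v * v', y⁆ = ⁅v', y⁆ * ⁅v, y⁆ := by
        calc ⁅v * v', y⁆ = v * ⁅v', y⁆ * v⁻¹ * ⁅v, y⁆ := by simp [commutatorElement_def, mul_assoc]
          _ = _ := by rw [← h.R_comm hne hle hV hv'C hv'n hv, mul_inv_cancel_right]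
      have hvv : v = v' := by
        by_contra hne'
        have h1 : v * v' ≠ 1 := fun e1 => hne' (by
          rw [← h.inv_eq hv']; exact eq_inv_of_mul_eq_one_left e1)
        refine hyn (h.mem_nor_of_brk hne hle hV hy (mul_mem hv hv') h1 ?_)
        rw [← commutatorElement_inv, e2]
        refine inv_mem ?_
        have e3 : ⁅v, y⁆ = ⁅v', y⁆ * (k' * k⁻¹) := by rw [← mul_assoc, ← e', mul_inv_cancel_right]
        rw [e3, ← mul_assoc, hRexp _ (hmem v' hv'), one_mul]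
        exact mul_mem hk' (inv_mem hk)
      subst hvv
      have := mul_left_cancel e'
      subst this
      rfl
    have := Nat.card_le_card_of_injective f hf
    rwa [Nat.card_prod, card_cj] at this
  have : Nat.card R < Nat.card Cc := by
    by_contra hge
    exact hRC.ne (Subgroup.eq_of_le_of_card_ge hRC.le (not_lt.mp hge))
  omega

end NotLe

theorem le_Ps : V ≤ Ps V g := by_contra fun hV => h.false_of_not_le hne hle hV

end Ctx

end CfsgLib.TI.LargeRadical
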