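import Mathlib
import Cfsg.Agent.Lib.TI.LargeRadicalConj
import Cfsg.Agent.Lib.Jordan.InvClosedField
import Cfsg.Agent.Lib.RootSub.SL2RankOne

/-!
For `V` as in `Lib.TI.LargeRadical` and `V^g ≠ V` inside `cr V`: `cr V = O₂(M)`, and
`⟨cr V, (cr V)^g⟩` induces `SL₂` of a field of order `|V|` on `W = V V^g`.
-/

set_option autoImplicit false
set_option linter.style.haveILetI false
set_option linter.unusedSectionVars false

open scoped commutatorElement MatrixGroups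
open CfsgLib.RootSub.Unitri

namespace CfsgLib.TI.LargeRadical

variable {G : Type*} [Group G] [Finite G] {V : Subgroup G} (h : Ctx V)
variable {g : G} (hne : cj V g ≠ V) (hle : cj V g ≤ cr V)
include h hne hle

namespace Ctx

theorem inv_pair : cj V g⁻¹ ≠ V ∧ cj V g⁻¹ ≤ cr V := by
  constructor
  · intro e
    rw [← mem_nor_iff] at e
    exact hne (mem_nor_iff.mp (by simpa using inv_mem e))
  · intro z hz
    rw [mem_cj, inv_inv] at hz
    have := mem_Ps.mp (h.le_Ps hne hle hz)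
    simpa [mul_assoc] using this

theorem mem_C {v : G} (hv : v ∈ V) : v ∈ Ps V g := h.le_Ps hne hle hv

theorem conj_W_C {y z : G} (hy : y ∈ Ps V g) (hz : z ∈ V ⊔ cj V g) :
    y * z * y⁻¹ ∈ V ⊔ cj V g := by
  obtain ⟨hne', hle'⟩ := h.inv_pair hne hle
  obtain ⟨v, hv, k, hk, rfl⟩ := h.mem_W hne hle hz
  have h1 : g⁻¹ * v * g ∈ cj V g⁻¹ := mem_cj.mpr (by simpa [mul_assoc] using hv)
  have h2 := h.conj_W hne' hle' (mem_Ps.mp hy) (Subgroup.mem_sup_right h1)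
  obtain ⟨v', hv', k', hk', e⟩ := h.mem_W hne' hle' h2
  have h3 : y * v * y⁻¹ = g * v' * g⁻¹ * (g * k' * g⁻¹) := by
    rw [show g * v' * g⁻¹ * (g * k' * g⁻¹) = g * (v' * k') * g⁻¹ by group, e]; group
  have h4 : g * v' * g⁻¹ ∈ cj V g := mem_cj.mpr (by simpa [mul_assoc] using hv')
  have h5 : g * k' * g⁻¹ ∈ V := by
    have := mem_cj.mp hk'
    rwa [inv_inv] at this
  rw [show y * (v * k) * y⁻¹ = y * v * y⁻¹ * (y * k * y⁻¹) by group, h.centK hne hle hy hk,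
    mul_inv_cancel_right, h3]
  exact mul_mem (mul_mem (Subgroup.mem_sup_right h4) (Subgroup.mem_sup_left h5))
    (Subgroup.mem_sup_right hk)

theorem exists_bracketC {k v : G} (hv : v ∈ V) (hv1 : v ≠ 1) (hk : k ∈ cj V g) :
    ∃ y ∈ Ps V g, ⁅y, v⁆ = k := by
  obtain ⟨hne', hle'⟩ := h.inv_pair hne hle
  have h1 : g⁻¹ * v * g ∈ cj V g⁻¹ := mem_cj.mpr (by simpa [mul_assoc] using hv)
  have h2 : g⁻¹ * v * g ≠ 1 := fun e => hv1 (by
    have := congrArg (fun z => g * z * g⁻¹) e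
    simpa [mul_assoc] using this)
  obtain ⟨p, hp, e⟩ := h.exists_bracket hne' hle' h1 h2 (mem_cj.mp hk)
  refine ⟨g * p * g⁻¹, mem_Ps.mpr (by simpa [mul_assoc] using hp), ?_⟩
  apply mul_left_cancel (a := g⁻¹)
  apply mul_right_cancel (b := g)
  rw [conj_comm, show g⁻¹ * (g * p * g⁻¹) * g = p by group, e]

/-- A nondegenerate `p` has an inverse `y` in `(cr V)^g`. -/
theorem exists_inverse {p k₀ : G} (hp : p ∈ cr V) (hk₀ : k₀ ∈ cj V g) (hne₀ : p * k₀ ≠ k₀ * p) :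
    ∃ y ∈ Ps V g, (∀ k ∈ cj V g, ⁅y, ⁅p, k⁆⁆ = k) ∧ ∀ v ∈ V, ⁅p, ⁅y, v⁆⁆ = v := by
  have hk₀1 : k₀ ≠ 1 := fun e => hne₀ (by rw [e]; simp)
  have hv : ⁅p, k₀⁆ ∈ V := h.comm_mem hp (hle hk₀)
  have hv1 : ⁅p, k₀⁆ ≠ 1 := fun e => hne₀ (commutatorElement_eq_one_iff_mul_comm.mp e)
  obtain ⟨y, hy, hyv⟩ := h.exists_bracketC hne hle hv hv1 hk₀
  have hw1 : p * k₀ * p⁻¹ ∈ cj V (p * g) := by
    rw [mem_cj_mul]; simpa [mul_assoc] using hk₀
  have hw2 : p * k₀ * p⁻¹ ∈ cj V y := by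
    have e : y * ⁅p, k₀⁆ * y⁻¹ = p * k₀ * p⁻¹ := by
      calc y * ⁅p, k₀⁆ * y⁻¹ = ⁅y, ⁅p, k₀⁆⁆ * ⁅p, k₀⁆ := by
            simp [commutatorElement_def, mul_assoc]
        _ = ⁅p, k₀⁆ * k₀ := by rw [hyv, h.commK hne hle hk₀ hv]
        _ = _ := by simp [commutatorElement_def, mul_assoc]
    rw [← e]
    exact mem_cj.mpr (by simpa [mul_assoc] using hv)
  have heq : cj V (p * g) = cj V y := h.ti2 hw1 hw2 (fun e => hk₀1 (by
    have := congrArg (fun z => p⁻¹ * z * p) e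
    simpa [mul_assoc] using this))
  have key : ∀ k ∈ cj V g, ⁅y, ⁅p, k⁆⁆ = k := by
    intro k hk
    have h1 : p * k * p⁻¹ ∈ cj V y := by
      rw [← heq, mem_cj_mul]; simpa [mul_assoc] using hk
    set v := y⁻¹ * (p * k * p⁻¹) * y with hvdef
    have hvV : v ∈ V := mem_cj.mp h1
    have hd : ⁅y, v⁆ ∈ cj V g := h.commC_mem hne hle hy (h.mem_C hne hle hvV)
    have e1 : v * ⁅y, v⁆ = ⁅p, k⁆ * k := by
      rw [← h.commK hne hle hd hvV]
      simp [commutatorElement_def, hvdef, mul_assoc]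
    obtain ⟨e2, e3⟩ := h.decomp_unique hne hle hvV (h.comm_mem hp (hle hk)) hd hk e1
    rw [← e2, e3]
  refine ⟨y, hy, key, fun v hv' => ?_⟩
  obtain ⟨k, hk, e⟩ := h.surj hp hne hle hk₀ hne₀ hv'
  rw [← e, key k hk]

theorem exists_nondeg : ∃ p ∈ cr V, ∃ k₀ ∈ cj V g, p * k₀ ≠ k₀ * p := by
  obtain ⟨k, hk, hk1⟩ := h.exists_ne_K hne hle
  obtain ⟨v, hv, hv1⟩ := h.exists_ne_V hne hle
  obtain ⟨p, hp, e⟩ := h.exists_bracket hne hle hk hk1 hv
  exact ⟨p, hp, k, hk, fun e' => hv1 (by rw [← e]; exact commutatorElement_eq_one_iff_mul_comm.mpr e')⟩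

theorem swap {p y : G} (hp : p ∈ cr V) (hy : y ∈ Ps V g)
    (h1 : ∀ k ∈ cj V g, ⁅y, ⁅p, k⁆⁆ = k) (h2 : ∀ v ∈ V, ⁅p, ⁅y, v⁆⁆ = v) :
    (∀ k ∈ cj V g, p * y * p * k * (p * y * p)⁻¹ = ⁅p, k⁆) ∧
      (∀ v ∈ V, p * y * p * v * (p * y * p)⁻¹ = ⁅y, v⁆) := by
  have pK : ∀ k ∈ cj V g, p * k * p⁻¹ = ⁅p, k⁆ * k := fun k _ => by simp [commutatorElement_def]
  have yV : ∀ v ∈ V, y * v * y⁻¹ = ⁅y, v⁆ * v := fun v _ => by simp [commutatorElement_def]
  have hPV : ∀ v ∈ V, p * v * p⁻¹ = v := fun v hv => by rw [comm_V hp hv, mul_inv_cancel_right]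
  have hYK : ∀ k ∈ cj V g, y * k * y⁻¹ = k := fun k hk => by
    rw [h.centK hne hle hy hk, mul_inv_cancel_right]
  constructor
  · intro k hk
    have hv : ⁅p, k⁆ ∈ V := h.comm_mem hp (hle hk)
    calc p * y * p * k * (p * y * p)⁻¹ = p * (y * (p * k * p⁻¹) * y⁻¹) * p⁻¹ := by group
      _ = p * (y * ⁅p, k⁆ * y⁻¹ * (y * k * y⁻¹)) * p⁻¹ := by rw [pK k hk]; group
      _ = p * (k * ⁅p, k⁆ * k) * p⁻¹ := by rw [yV _ hv, h1 k hk, hYK k hk]
      _ = p * ⁅p, k⁆ * p⁻¹ := by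
        rw [h.commK hne hle hk hv, mul_assoc ⁅p, k⁆, h.sq_cj hk, mul_one]
      _ = _ := hPV _ hv
  · intro v hv
    have hk : ⁅y, v⁆ ∈ cj V g := h.commC_mem hne hle hy (h.mem_C hne hle hv)
    calc p * y * p * v * (p * y * p)⁻¹ = p * (y * (p * v * p⁻¹) * y⁻¹) * p⁻¹ := by group
      _ = p * ⁅y, v⁆ * p⁻¹ * (p * v * p⁻¹) := by
        rw [show y * (p * v * p⁻¹) * y⁻¹ = ⁅y, v⁆ * v by rw [hPV v hv]; exact yV v hv]; group
      _ = v * ⁅y, v⁆ * v := by rw [pK _ hk, h2 v hv, hPV v hv]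
      _ = _ := by rw [← h.commK hne hle hk hv, mul_assoc, h.sq v hv, mul_one]

/-- `M` is transitive on the involutions of `V`. -/
theorem transitive {v₁ v₂ : G} (h₁ : v₁ ∈ V) (h₁' : v₁ ≠ 1) (h₂ : v₂ ∈ V) (h₂' : v₂ ≠ 1) :
    ∃ m ∈ nor V, m * v₁ * m⁻¹ = v₂ := by
  obtain ⟨k, hk, hk1⟩ := h.exists_ne_K hne hle
  obtain ⟨p₁, hp₁, e₁⟩ := h.exists_bracket hne hle hk hk1 h₂
  obtain ⟨p₂, hp₂, e₂⟩ := h.exists_bracket hne hle hk hk1 h₁
  obtain ⟨y₁, hy₁, a₁, b₁⟩ := h.exists_inverse hne hle hp₁ hk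
    (fun e => h₂' (by rw [← e₁]; exact commutatorElement_eq_one_iff_mul_comm.mpr e))
  obtain ⟨y₂, hy₂, a₂, b₂⟩ := h.exists_inverse hne hle hp₂ hk
    (fun e => h₁' (by rw [← e₂]; exact commutatorElement_eq_one_iff_mul_comm.mpr e))
  obtain ⟨s₁K, -⟩ := h.swap hne hle hp₁ hy₁ a₁ b₁
  obtain ⟨-, s₂V⟩ := h.swap hne hle hp₂ hy₂ a₂ b₂
  set s₁ := p₁ * y₁ * p₁
  set s₂ := p₂ * y₂ * p₂
  refine ⟨s₁ * s₂, mem_nor_iff.mpr ?_, ?_⟩
  · refine (Subgroup.eq_of_le_of_card_ge ?_ (card_cj V (s₁ * s₂)).ge)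
    intro z hz
    rw [mem_cj] at hz
    have h3 := s₂V _ hz
    have h4 : ⁅y₂, (s₁ * s₂)⁻¹ * z * (s₁ * s₂)⁆ ∈ cj V g :=
      h.commC_mem hne hle hy₂ (h.mem_C hne hle hz)
    have h5 : s₁⁻¹ * z * s₁ ∈ cj V g := by
      rw [← h3] at h4
      simpa [mul_assoc] using h4
    have h6 := s₁K _ h5
    have h7 : ⁅p₁, s₁⁻¹ * z * s₁⁆ ∈ V := h.comm_mem hp₁ (hle h5)
    rw [← h6] at h7
    simpa [mul_assoc] using h7
  · rw [show s₁ * s₂ * v₁ * (s₁ * s₂)⁻¹ = s₁ * (s₂ * v₁ * s₂⁻¹) * s₁⁻¹ by group, s₂V v₁ h₁,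
      show ⁅y₂, v₁⁆ = k by rw [← e₂]; exact a₂ k hk, s₁K k hk, e₁]

theorem cr_eq_rad : cr V = rad V := by
  haveI : Fact (Nat.Prime 2) := ⟨Nat.prime_two⟩
  refine le_antisymm inf_le_left fun t ht => ?_
  obtain ⟨v, hv, hv1⟩ := h.exists_ne_V hne hle
  have hne' : ¬ rad V ≤ ⊥ := fun e => hv1 (Subgroup.mem_bot.mp (e (h.le_radV hv)))
  obtain ⟨z, hz, hz1, hzc⟩ := exists_central_mod (B := (⊥ : Subgroup G)) isPGroup_rad le_rfl
    (fun x hx a ha => mul_mem (mul_mem hx ha) (inv_mem hx))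
    (fun x hx a ha => by rw [Subgroup.mem_bot.mp ha]; simp) hne'
  have hzcomm : ∀ x ∈ rad V, x * z = z * x := fun x hx =>
    commutatorElement_eq_one_iff_mul_comm.mp (Subgroup.mem_bot.mp (hzc x hx))
  have hz1' : z ≠ 1 := fun e => hz1 (Subgroup.mem_bot.mpr e)
  have hzcr : z ∈ cr V := mem_cr.mpr ⟨hz, fun w hw => (hzcomm w (h.le_radV hw)).symm⟩
  have hzV : z ∈ V := h.central_mem hzcr fun x hx => (hzcomm x (Subgroup.mem_inf.mp hx).1).symm
  refine mem_cr.mpr ⟨ht, fun w hw => ?_⟩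
  by_cases hw1 : w = 1
  · rw [hw1]; simp
  obtain ⟨m, hm, e⟩ := h.transitive hne hle hzV hz1' hw hw1
  have h1 : m⁻¹ * t * m ∈ rad V := by simpa using rad_conj (inv_mem hm) ht
  have h2 := congrArg (fun x => m * x * m⁻¹) (hzcomm _ h1)
  rw [← e]
  simpa [mul_assoc] using h2

theorem commutator_eq : ⁅rad V, rad V⁆ = V := by
  rw [← h.cr_eq_rad hne hle]
  refine le_antisymm (Subgroup.commutator_le.mpr fun p hp q hq => h.comm_mem hp hq) fun v hv => ?_
  obtain ⟨k, hk, hk1⟩ := h.exists_ne_K hne hle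
  obtain ⟨p, hp, e⟩ := h.exists_bracket hne hle hk hk1 hv
  rw [← e]
  exact Subgroup.commutator_mem_commutator hp (hle hk)

theorem sup_normalizes : cr V ⊔ Ps V g ≤ Subgroup.normalizer ((V ⊔ cj V g : Subgroup G) : Set G) := by
  refine sup_le (fun p hp => ?_) (fun y hy => ?_)
  · refine Subgroup.mem_normalizer_iff.mpr fun z => ⟨h.conj_W hne hle hp, fun hz => ?_⟩
    have := h.conj_W hne hle (inv_mem hp) hz
    simpa [mul_assoc] using this
  · refine Subgroup.mem_normalizer_iff.mpr fun z => ⟨h.conj_W_C hne hle hy, fun hz => ?_⟩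
    have := h.conj_W_C hne hle (inv_mem hy) hz
    simpa [mul_assoc] using this

open Matrix in
/-- The group induced on `W` is `SL₂` of a field of order `|V|`. -/
theorem exists_sl2 (hN : ((Subgroup.centralizer ((V ⊔ cj V g : Subgroup G) : Set G)).subgroupOf
      (cr V ⊔ Ps V g)).Normal) :
    ∃ (F : Type) (_ : Field F) (_ : Fintype F), Fintype.card F = Nat.card ↥V ∧
      Nonempty (↥(cr V ⊔ Ps V g) ⧸ (Subgroup.centralizer ((V ⊔ cj V g : Subgroup G) : Set G)).subgroupOf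
        (cr V ⊔ Ps V g) ≃* Matrix.SpecialLinearGroup (Fin 2) F) := by
  classical
  haveI : Fact (Nat.Prime 2) := ⟨Nat.prime_two⟩
  obtain ⟨p₁, hp₁, k₁, hk₁, hne₁⟩ := h.exists_nondeg hne hle
  obtain ⟨y₁, hy₁, a₁, b₁⟩ := h.exists_inverse hne hle hp₁ hk₁ hne₁
  obtain ⟨s₁K, s₁V⟩ := h.swap hne hle hp₁ hy₁ a₁ b₁
  set s₁ := p₁ * y₁ * p₁ with hs₁
  let _ : CommGroup ↥(cj V g) := { (inferInstance : Group ↥(cj V g)) with
    mul_comm := fun a b => Subtype.ext (h.comm_cj a.2 b.2) }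
  let A := Additive ↥(cj V g)
  let val : A → G := fun x => ((Additive.toMul x : ↥(cj V g)) : G)
  have hval : ∀ x, val x ∈ cj V g := fun x => (Additive.toMul x).2
  have hinj : Function.Injective val := fun a b e => Additive.toMul.injective (Subtype.ext e)
  have hadd : ∀ a b, val (a + b) = val a * val b := fun _ _ => rfl
  have hzero : val 0 = 1 := rfl
  -- endomorphisms of `K` from pairs
  let mk : ∀ (y p : G), y ∈ Ps V g → p ∈ cr V → AddMonoid.End A := fun y p hy hp =>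
    AddMonoidHom.mk' (fun x => Additive.ofMul (⟨⁅y, ⁅p, val x⁆⁆, h.commC_mem hne hle hy
        (h.mem_C hne hle (h.comm_mem hp (hle (hval x))))⟩ : ↥(cj V g)))
      (fun a b => hinj (by
        show ⁅y, ⁅p, val a * val b⁆⁆ = ⁅y, ⁅p, val a⁆⁆ * ⁅y, ⁅p, val b⁆⁆
        rw [h.mul_right (hle (hval a)) (hle (hval b)) hp,
          h.mul_rightC hne hle (h.mem_C hne hle (h.comm_mem hp (hle (hval a))))
            (h.mem_C hne hle (h.comm_mem hp (hle (hval b)))) hy]))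
  have hmk : ∀ y p hy hp x, val (mk y p hy hp x) = ⁅y, ⁅p, val x⁆⁆ := fun _ _ _ _ _ => rfl
  let Θ : Additive ↥(cr V) →+ AddMonoid.End A :=
    AddMonoidHom.mk' (fun q => mk y₁ (Additive.toMul q : ↥(cr V)) hy₁ (Additive.toMul q).2)
      (fun a b => AddMonoidHom.ext fun x => hinj (by
        set a' := Additive.toMul a
        set b' := Additive.toMul b
        show ⁅y₁, ⁅(a' : G) * b', val x⁆⁆ = ⁅y₁, ⁅(a' : G), val x⁆⁆ * ⁅y₁, ⁅(b' : G), val x⁆⁆
        rw [h.mul_left a'.2 b'.2 (hle (hval x)),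
          h.mul_rightC hne hle (h.mem_C hne hle (h.comm_mem a'.2 (hle (hval x))))
            (h.mem_C hne hle (h.comm_mem b'.2 (hle (hval x)))) hy₁]))
  have hΘ : ∀ (p : G) (hp : p ∈ cr V) x,
      val (Θ (Additive.ofMul (⟨p, hp⟩ : ↥(cr V))) x) = ⁅y₁, ⁅p, val x⁆⁆ := fun _ _ _ => rfl
  -- maps from `C` lie in the range of `Θ`
  have hC : ∀ y (hy : y ∈ Ps V g), mk y p₁ hy hp₁ ∈ Θ.range := by
    intro y hy
    have hcj : cj V (s₁ * g) = V := by
      refine Subgroup.eq_of_le_of_card_ge (fun z hz => ?_) (card_cj V _).ge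
      rw [mem_cj_mul] at hz
      have h7 : ⁅p₁, s₁⁻¹ * z * s₁⁆ ∈ V := h.comm_mem hp₁ (hle hz)
      rw [← s₁K _ hz] at h7
      simpa [mul_assoc] using h7
    have hp' : s₁ * y * s₁⁻¹ ∈ cr V := by
      have h8 : Ps V (s₁ * g) = cr V := by
        rw [h.Ps_eq (hcj.trans (cj_one V).symm)]
        exact Subgroup.ext fun z => by rw [mem_Ps]; simp
      rw [← h8, mem_Ps]
      have := mem_Ps.mp hy
      simpa [mul_assoc] using this
    refine ⟨Additive.ofMul (⟨_, hp'⟩ : ↥(cr V)), AddMonoidHom.ext fun x => hinj ?_⟩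
    refine (hΘ _ hp' x).trans ?_
    show ⁅y₁, ⁅s₁ * y * s₁⁻¹, val x⁆⁆ = ⁅y, ⁅p₁, val x⁆⁆
    have hv : ⁅p₁, val x⁆ ∈ V := h.comm_mem hp₁ (hle (hval x))
    have e1 : s₁ * ⁅p₁, val x⁆ * s₁⁻¹ = val x := by rw [s₁V _ hv]; exact a₁ _ (hval x)
    have e2 : ⁅s₁ * y * s₁⁻¹, val x⁆ = s₁ * ⁅y, ⁅p₁, val x⁆⁆ * s₁⁻¹ := by
      nth_rw 1 [← e1]
      simp [commutatorElement_def, mul_assoc]
    have hk := h.commC_mem hne hle hy (h.mem_C hne hle hv)
    rw [e2, s₁K _ hk, a₁ _ hk]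
  have hdeg : ∀ (p : G) (hp : p ∈ cr V) x, val x ≠ 1 →
      Θ (Additive.ofMul (⟨p, hp⟩ : ↥(cr V))) x = 0 → Θ (Additive.ofMul (⟨p, hp⟩ : ↥(cr V))) = 0 := by
    intro p hp x hx e
    have e1 : ⁅y₁, ⁅p, val x⁆⁆ = 1 := by rw [← hΘ p hp, e, hzero]
    have e2 : ⁅p, val x⁆ = 1 := by
      have := b₁ _ (h.comm_mem hp (hle (hval x)))
      rw [e1, commutatorElement_one_right] at this
      exact this.symm
    refine AddMonoidHom.ext fun z => hinj ?_
    refine (hΘ p hp z).trans ?_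
    rw [commutatorElement_eq_one_iff_mul_comm.mpr (h.comm_all hp hne hle (hval x) hx
      (commutatorElement_eq_one_iff_mul_comm.mp e2) (hval z)), commutatorElement_one_right]
    exact hzero.symm
  let E : AddSubgroup (AddMonoid.End A) := Θ.range
  have hone : (1 : AddMonoid.End A) = Θ (Additive.ofMul (⟨p₁, hp₁⟩ : ↥(cr V))) :=
    AddMonoidHom.ext fun x => hinj ((hΘ p₁ hp₁ x).trans (a₁ _ (hval x))).symm
  have hk₁1 : k₁ ≠ 1 := fun e => hne₁ (by rw [e]; simp)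
  let x₁ : A := Additive.ofMul (⟨k₁, hk₁⟩ : ↥(cj V g))
  have hinv : ∀ a ∈ E, a ≠ 0 → ∃ y, ∃ hy : y ∈ Ps V g, mk y p₁ hy hp₁ * a = 1 := by
    rintro _ ⟨q, rfl⟩ ha
    obtain ⟨⟨p, hp⟩, rfl⟩ := Additive.ofMul.surjective q
    obtain ⟨k₀, hk₀, hne₀⟩ : ∃ k₀ ∈ cj V g, p * k₀ ≠ k₀ * p := by
      by_contra hall
      push Not at hall
      refine ha (AddMonoidHom.ext fun z => hinj ?_)
      refine (hΘ p hp z).trans ?_
      rw [commutatorElement_eq_one_iff_mul_comm.mpr (hall _ (hval z)), commutatorElement_one_right]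
      exact hzero.symm
    obtain ⟨y, hy, a', -⟩ := h.exists_inverse hne hle hp hk₀ hne₀
    refine ⟨y, hy, AddMonoidHom.ext fun x => hinj ?_⟩
    show val (mk y p₁ hy hp₁ (Θ _ x)) = val x
    show ⁅y, ⁅p₁, ⁅y₁, ⁅p, val x⁆⁆⁆⁆ = val x
    rw [b₁ _ (h.comm_mem hp (hle (hval x))), a' _ (hval x)]
  haveI : Finite (AddMonoid.End A) := Finite.of_injective (fun f => (f : A → A)) DFunLike.coe_injective
  have hnt : (1 : AddMonoid.End A) ≠ 0 := fun e => hk₁1 (by
    have := congrArg (fun f : AddMonoid.End A => val (f x₁)) e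
    exact this)
  have hunit : ∀ a ∈ E, a ≠ 0 → ∃ b ∈ E, b * a = 1 := fun a ha ha0 => by
    obtain ⟨y, hy, e⟩ := hinv a ha ha0
    exact ⟨_, hC y hy, e⟩
  have hE : CfsgLib.Jordan.InvClosed.Hyp E :=
    { two := AddMonoidHom.ext fun x => hinj (h.sq_cj (hval x))
      nontrivial := hnt
      one := ⟨_, hone.symm⟩
      inv := fun a ha ha0 => by
        obtain ⟨b, hb, e⟩ := hunit a ha ha0
        have hb0 : b ≠ 0 := fun e' => hnt (by rw [← e, e', zero_mul])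
        obtain ⟨c, -, e'⟩ := hunit b hb hb0
        have : c = a := by rw [← mul_one c, ← e, ← mul_assoc, e', one_mul]
        exact ⟨b, hb, this ▸ e', e⟩ }
  have hcomm := hE.commutative
  let S : Subring (AddMonoid.End A) :=
    { carrier := E
      one_mem' := hE.one
      zero_mem' := E.zero_mem
      add_mem' := fun ha hb => E.add_mem ha hb
      neg_mem' := fun ha => E.neg_mem ha
      mul_mem' := fun ha hb => hE.mul_mem_of_comm ha hb (hcomm _ ha _ hb) }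
  let _ : CommRing S := { (inferInstance : Ring S) with
    mul_comm := fun a b => Subtype.ext (hcomm a a.2 b b.2) }
  haveI : Nontrivial S := ⟨⟨1, 0, fun e => hnt (congrArg Subtype.val e)⟩⟩
  haveI : NoZeroDivisors S := ⟨fun {a b} e => by
    by_cases ha : a = 0
    · exact Or.inl ha
    · exact Or.inr (Subtype.ext (hE.mul_eq_zero_left a.2 (fun e' => ha (Subtype.ext e'))
        (congrArg Subtype.val e)))⟩
  haveI : IsDomain S := NoZeroDivisors.to_isDomain _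
  let _ : Fintype S := Fintype.ofFinite S
  let _ : Field S := Fintype.fieldOfDomain S
  -- the order
  have hcardS : Nat.card S = Nat.card V := by
    rw [← card_cj V g]
    refine Nat.card_congr (Equiv.ofBijective
      (fun a : S => Additive.toMul ((a : AddMonoid.End A) x₁)) ⟨?_, ?_⟩)
    · intro a b e
      have e' : ((a : AddMonoid.End A) - b) x₁ = 0 :=
        sub_eq_zero.mpr (Additive.toMul.injective e)
      obtain ⟨q, hq⟩ := E.sub_mem a.2 b.2
      obtain ⟨⟨p, hp⟩, rfl⟩ := Additive.ofMul.surjective q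
      rw [← hq] at e'
      exact Subtype.ext (sub_eq_zero.mp (hq ▸ hdeg p hp x₁ hk₁1 e'))
    · rintro ⟨k, hk⟩
      obtain ⟨p, hp, e⟩ := h.exists_bracket hne hle hk₁ hk₁1 (h.comm_mem hp₁ (hle hk))
      refine ⟨⟨Θ (Additive.ofMul (⟨p, hp⟩ : ↥(cr V))), ⟨_, rfl⟩⟩, Subtype.ext ?_⟩
      show val (Θ _ x₁) = k
      rw [hΘ, show val x₁ = k₁ from rfl, e, a₁ k hk]
  obtain ⟨n, hn⟩ := IsPGroup.iff_card.mp h.isPGroup
  have hn0 : n ≠ 0 := by
    rintro rfl
    rw [pow_zero] at hn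
    obtain ⟨v, hv, hv1⟩ := h.exists_ne_V hne hle
    rw [Subgroup.card_eq_one.mp hn] at hv
    exact hv1 (Subgroup.mem_bot.mp hv)
  let _ : Fintype (GaloisField 2 n) := Fintype.ofFinite _
  have hFcard : Fintype.card (GaloisField 2 n) = Nat.card V := by
    rw [← Nat.card_eq_fintype_card, GaloisField.card 2 n hn0, hn]
  refine ⟨GaloisField 2 n, inferInstance, inferInstance, hFcard, ?_⟩
  let eF : GaloisField 2 n ≃+* S :=
    FiniteField.ringEquivOfCardEq (by rw [hFcard, ← Nat.card_eq_fintype_card, hcardS])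
  let ι : GaloisField 2 n →+* AddMonoid.End A := S.subtype.comp eF.toRingHom
  have hιE : ∀ c, ι c ∈ E := fun c => (eF c).2
  have hιsurj : ∀ a ∈ E, ∃ c, ι c = a := fun a ha => ⟨eF.symm ⟨a, ha⟩, by
    show ((eF (eF.symm ⟨a, ha⟩) : S) : AddMonoid.End A) = a
    rw [eF.apply_symm_apply]⟩
  -- coordinates on `W`
  let W := V ⊔ cj V g
  have hW : ∀ x z : A, val x * ⁅p₁, val z⁆ ∈ W := fun x z =>
    mul_mem (Subgroup.mem_sup_right (hval x))
      (Subgroup.mem_sup_left (h.comm_mem hp₁ (hle (hval z))))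
  let Ω₀ : A × A → ↥W := fun t => ⟨val t.1 * ⁅p₁, val t.2⁆, hW t.1 t.2⟩
  have hΩ₀ : Function.Bijective Ω₀ := by
    constructor
    · rintro ⟨x, z⟩ ⟨x', z'⟩ e
      have e' : val x * ⁅p₁, val z⁆ = val x' * ⁅p₁, val z'⁆ := congrArg Subtype.val e
      rw [h.commK hne hle (hval x) (h.comm_mem hp₁ (hle (hval z))),
        h.commK hne hle (hval x') (h.comm_mem hp₁ (hle (hval z')))] at e'
      obtain ⟨e1, e2⟩ := h.decomp_unique hne hle (h.comm_mem hp₁ (hle (hval z)))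
        (h.comm_mem hp₁ (hle (hval z'))) (hval x) (hval x') e'
      refine Prod.ext (hinj e2) (hinj ?_)
      show val z = val z'
      rw [← a₁ _ (hval z), e1, a₁ _ (hval z')]
    · rintro ⟨w, hw⟩
      obtain ⟨v, hv, k, hk, rfl⟩ := h.mem_W hne hle hw
      refine ⟨(Additive.ofMul (⟨k, hk⟩ : ↥(cj V g)),
        Additive.ofMul (⟨⁅y₁, v⁆, h.commC_mem hne hle hy₁ (h.mem_C hne hle hv)⟩ : ↥(cj V g))),
        Subtype.ext ?_⟩
      show k * ⁅p₁, ⁅y₁, v⁆⁆ = v * k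
      rw [b₁ v hv, h.commK hne hle hk hv]
  let Ω : A × A ≃ ↥W := Equiv.ofBijective Ω₀ hΩ₀
  have hΩmul : ∀ s t : A × A, Ω (s + t) = Ω s * Ω t := by
    rintro ⟨x, z⟩ ⟨x', z'⟩
    refine Subtype.ext ?_
    show val x * val x' * ⁅p₁, val z * val z'⁆ = val x * ⁅p₁, val z⁆ * (val x' * ⁅p₁, val z'⁆)
    have h1 := h.comm_mem hp₁ (hle (hval z))
    rw [h.mul_right (hle (hval z)) (hle (hval z')) hp₁, mul_assoc (val x), mul_assoc (val x),
      ← mul_assoc ⁅p₁, val z⁆ (val x'), ← h.commK hne hle (hval x') h1, mul_assoc (val x')]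
  -- the matrix action
  let mat : SpecialLinearGroup (Fin 2) (GaloisField 2 n) → A × A → A × A := fun M t =>
    (ι (M.1 0 0) t.1 + ι (M.1 0 1) t.2, ι (M.1 1 0) t.1 + ι (M.1 1 1) t.2)
  have hι2 : ∀ c d (x : A), ι (c * d) x = ι c (ι d x) := fun c d x => by rw [map_mul]; rfl
  have hι1 : ∀ c d (x : A), ι (c + d) x = ι c x + ι d x := fun c d x => by rw [map_add]; rfl
  have hrow : ∀ (a b c d e f : GaloisField 2 n) (x y : A),
      ι (a * c + b * e) x + ι (a * d + b * f) y = ι a (ι c x + ι d y) + ι b (ι e x + ι f y) := by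
    intro a b c d e f x y
    rw [hι1, hι1, hι2, hι2, hι2, hι2, map_add (ι a : A →+ A), map_add (ι b : A →+ A)]
    exact add_add_add_comm _ _ _ _
  have hmat_mul : ∀ M N t, mat (M * N) t = mat M (mat N t) := by
    intro M N t
    have hco : ∀ i j, (M * N).1 i j = M.1 i 0 * N.1 0 j + M.1 i 1 * N.1 1 j := fun i j => by
      show ((M.1 * N.1 : Matrix (Fin 2) (Fin 2) (GaloisField 2 n))) i j = _
      rw [Matrix.mul_apply, Fin.sum_univ_two]
    refine Prod.ext ?_ ?_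
    · show ι ((M * N).1 0 0) t.1 + ι ((M * N).1 0 1) t.2 = _
      rw [hco, hco]
      exact hrow _ _ _ _ _ _ _ _
    · show ι ((M * N).1 1 0) t.1 + ι ((M * N).1 1 1) t.2 = _
      rw [hco, hco]
      exact hrow _ _ _ _ _ _ _ _
  have hmat_one : ∀ t, mat 1 t = t := fun t => by
    simp [mat, map_one, map_zero, Matrix.one_apply]
  let act : SpecialLinearGroup (Fin 2) (GaloisField 2 n) → MulAut ↥W := fun M =>
    { toFun := fun w => Ω (mat M (Ω.symm w))
      invFun := fun w => Ω (mat M⁻¹ (Ω.symm w))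
      left_inv := fun w => by
        simp only [Equiv.symm_apply_apply, ← hmat_mul, inv_mul_cancel, hmat_one, Equiv.apply_symm_apply]
      right_inv := fun w => by
        simp only [Equiv.symm_apply_apply, ← hmat_mul, mul_inv_cancel, hmat_one, Equiv.apply_symm_apply]
      map_mul' := fun u w => by
        obtain ⟨s, rfl⟩ := Ω.surjective u
        obtain ⟨t, rfl⟩ := Ω.surjective w
        rw [← hΩmul, Equiv.symm_apply_apply, Equiv.symm_apply_apply, Equiv.symm_apply_apply, ← hΩmul]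
        refine congrArg Ω ?_
        simp only [mat, Prod.fst_add, Prod.snd_add, map_add]
        refine Prod.ext ?_ ?_ <;> simp only [Prod.fst_add, Prod.snd_add] <;> abel }
  let ψ : SpecialLinearGroup (Fin 2) (GaloisField 2 n) →* MulAut ↥W :=
    { toFun := act
      map_one' := MulEquiv.ext fun w => show Ω (mat 1 (Ω.symm w)) = w by
        rw [hmat_one, Equiv.apply_symm_apply]
      map_mul' := fun M N => MulEquiv.ext fun w =>
        show Ω (mat (M * N) (Ω.symm w)) = Ω (mat M (Ω.symm (Ω (mat N (Ω.symm w))))) by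
        rw [Equiv.symm_apply_apply, hmat_mul] }
  have hψΩ : ∀ M t, ψ M (Ω t) = Ω (mat M t) := fun M t => by
    show Ω (mat M (Ω.symm (Ω t))) = _
    rw [Equiv.symm_apply_apply]
  have hψinj : Function.Injective ψ := by
    intro M N e
    have key : ∀ t, mat M t = mat N t := fun t => Ω.injective (by rw [← hψΩ, ← hψΩ, e])
    have hin : ∀ c d, (∀ x : A, ι c x = ι d x) → c = d := fun c d e' =>
      eF.injective (Subtype.ext (AddMonoidHom.ext e'))
    ext i j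
    fin_cases i <;> fin_cases j <;> refine hin _ _ fun x => ?_
    · simpa [mat] using congrArg Prod.fst (key (x, 0))
    · simpa [mat] using congrArg Prod.fst (key (0, x))
    · simpa [mat] using congrArg Prod.snd (key (x, 0))
    · simpa [mat] using congrArg Prod.snd (key (0, x))
  -- the conjugation action
  set H := cr V ⊔ Ps V g with hH
  let ρ : ↥H →* MulAut ↥W :=
    (Subgroup.normalizerMonoidHom W).comp (Subgroup.inclusion (h.sup_normalizes hne hle))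
  have hρ : ∀ (a : ↥H) (w : ↥W), ((ρ a w : ↥W) : G) = (a : G) * w * (a : G)⁻¹ := fun _ _ => rfl
  have hker : ρ.ker = (Subgroup.centralizer (W : Set G)).subgroupOf H := by
    ext a
    rw [MonoidHom.mem_ker, Subgroup.mem_subgroupOf, Subgroup.mem_centralizer_iff]
    constructor
    · intro e w hw
      have := congrArg Subtype.val (DFunLike.congr_fun e (⟨w, hw⟩ : ↥W))
      rw [hρ] at this
      exact (mul_inv_eq_iff_eq_mul.mp this).symm
    · intro e
      refine MulEquiv.ext fun w => Subtype.ext ?_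
      rw [hρ, ← e w w.2, mul_inv_cancel_right]
      rfl
  -- images of the two generating subgroups
  have hlow : ∀ (p : G) (hp : p ∈ cr V) c, ι c = Θ (Additive.ofMul (⟨p, hp⟩ : ↥(cr V))) →
      ρ ⟨p, Subgroup.mem_sup_left hp⟩ = ψ (lom c) := by
    intro p hp c hc
    refine MulEquiv.ext fun w => ?_
    obtain ⟨⟨x, z⟩, rfl⟩ := Ω.surjective w
    refine Subtype.ext ?_
    rw [hψΩ, hρ]
    show p * (val x * ⁅p₁, val z⁆) * p⁻¹ = ((Ω (mat (lom c) (x, z)) : ↥W) : G)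
    have e1 : mat (lom c) (x, z) = (x, ι c x + z) := by simp [mat, lom_coe]
    rw [e1]
    show _ = val x * ⁅p₁, val (ι c x + z)⁆
    have hz := h.comm_mem hp₁ (hle (hval z))
    have hd := h.comm_mem hp (hle (hval x))
    rw [hadd, h.mul_right (hle (hval _)) (hle (hval _)) hp₁, hc, hΘ, b₁ _ hd,
      ← mul_assoc (val x), h.commK hne hle (hval x) hd,
      show p * (val x * ⁅p₁, val z⁆) * p⁻¹ = (p * val x * p⁻¹) * (p * ⁅p₁, val z⁆ * p⁻¹) by group,
      comm_V hp hz, mul_inv_cancel_right]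
    simp [commutatorElement_def]
  have hupp : ∀ (y : G) (hy : y ∈ Ps V g) c, ι c = mk y p₁ hy hp₁ →
      ρ ⟨y, Subgroup.mem_sup_right hy⟩ = ψ (upm c) := by
    intro y hy c hc
    refine MulEquiv.ext fun w => ?_
    obtain ⟨⟨x, z⟩, rfl⟩ := Ω.surjective w
    refine Subtype.ext ?_
    rw [hψΩ, hρ]
    show y * (val x * ⁅p₁, val z⁆) * y⁻¹ = ((Ω (mat (upm c) (x, z)) : ↥W) : G)
    have e1 : mat (upm c) (x, z) = (x + ι c z, z) := by simp [mat, upm_coe]
    rw [e1]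
    show _ = val (x + ι c z) * ⁅p₁, val z⁆
    rw [hadd, hc, hmk y p₁ hy hp₁,
      show y * (val x * ⁅p₁, val z⁆) * y⁻¹ = (y * val x * y⁻¹) * (y * ⁅p₁, val z⁆ * y⁻¹) by group,
      h.centK hne hle hy (hval x), mul_inv_cancel_right, mul_assoc (val x), commutatorElement_def y,
      inv_mul_cancel_right]
  have hrange : ρ.range = ψ.range := by
    have htop : (cr V).subgroupOf H ⊔ (Ps V g).subgroupOf H = ⊤ := by
      rw [← Subgroup.subgroupOf_sup le_sup_left le_sup_right, Subgroup.subgroupOf_self]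
    rw [MonoidHom.range_eq_map, MonoidHom.range_eq_map, ← htop, Subgroup.map_sup,
      ← CfsgLib.RootSub.Unitri.generate (k := GaloisField 2 n), Subgroup.map_sup]
    congr 1
    · ext f
      constructor
      · rintro ⟨⟨p, hpH⟩, hp, rfl⟩
        obtain ⟨c, hc⟩ := hιsurj _ ⟨Additive.ofMul (⟨p, hp⟩ : ↥(cr V)), rfl⟩
        exact ⟨lom c, mem_lower.mpr ⟨c, rfl⟩, (hlow p hp c hc).symm⟩
      · rintro ⟨M, hM, rfl⟩
        obtain ⟨c, rfl⟩ := mem_lower.mp hM
        obtain ⟨q, hq⟩ := hιE c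
        obtain ⟨⟨p, hp⟩, rfl⟩ := Additive.ofMul.surjective q
        exact ⟨⟨p, Subgroup.mem_sup_left hp⟩, hp, hlow p hp c hq.symm⟩
    · ext f
      constructor
      · rintro ⟨⟨y, hyH⟩, hy, rfl⟩
        obtain ⟨c, hc⟩ := hιsurj _ (hC y hy)
        exact ⟨upm c, mem_upper.mpr ⟨c, rfl⟩, (hupp y hy c hc).symm⟩
      · rintro ⟨M, hM, rfl⟩
        obtain ⟨c, rfl⟩ := mem_upper.mp hM
        by_cases hc0 : c = 0
        · exact ⟨1, one_mem _, by rw [map_one, hc0, upm_zero, map_one]⟩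
        obtain ⟨y, hy, e⟩ := hinv (ι c⁻¹) (hιE _) (by
          intro e'
          refine hnt ?_
          rw [← map_one ι, ← mul_inv_cancel₀ hc0, map_mul, e', mul_zero])
        refine ⟨⟨y, Subgroup.mem_sup_right hy⟩, hy, hupp y hy c ?_⟩
        calc ι c = mk y p₁ hy hp₁ * ι c⁻¹ * ι c := by rw [e, one_mul]
          _ = _ := by rw [mul_assoc, ← map_mul, inv_mul_cancel₀ hc0, map_one, mul_one]
  exact ⟨(QuotientGroup.quotientMulEquivOfEq hker.symm).trans
    ((QuotientGroup.quotientKerEquivRange ρ).trans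
      ((MulEquiv.subgroupCongr hrange).trans (MonoidHom.ofInjective hψinj).symm))⟩

end Ctx

end CfsgLib.TI.LargeRadical
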