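import Cfsg.Agent.Lib.Blocks.PrimeDefect.Modular
import Cfsg.Agent.Lib.Blocks.BrauerFeit
import Mathlib.GroupTheory.Sylow

/-!
# Fixed points in small representations of groups with TI Sylow subgroups

A representation of dimension less than the order of a TI Sylow subgroup `P` without nonzero
fixed points has none for the normalizer of `P`: modulo `p` the sums over the free orbits of `P`
vanish.
-/

set_option autoImplicit false
set_option linter.unusedSectionVars false

namespace CfsgLib.TI.SmallFixed

open Matrix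
open scoped Pointwise

section Trace

variable {Q : Type*} [Group Q] [Fintype Q] {k : Type*} [Field k] {p : ℕ} [hp : Fact p.Prime]
  [CharP k p] {n : Type*} [Fintype n] [DecidableEq n]

/-- The norm element of a `p`-group vanishes on a module of smaller dimension in
characteristic `p`. -/
theorem sum_mulVec_eq_zero (hQ : IsPGroup p Q) (R : Q →* Matrix n n k)
    (hn : Fintype.card n < Nat.card Q) (w : n → k) : ∑ x : Q, R x *ᵥ w = 0 := by
  classical
  set L : (Q → k) →ₗ[k] (n → k) := Fintype.linearCombination k (fun x : Q => R x *ᵥ w) with hL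
  have hker : LinearMap.ker L ≠ ⊥ := LinearMap.ker_ne_bot_of_finrank_lt (by
    rw [Module.finrank_pi, Module.finrank_pi, ← Nat.card_eq_fintype_card (α := Q)]; exact hn)
  obtain ⟨a, ha, ha0⟩ := Submodule.exists_mem_ne_zero_of_ne_bot hker
  rw [LinearMap.mem_ker] at ha
  have hLτ : ∀ (x : Q) (b : Q → k), L (fun z => b (x⁻¹ * z)) = R x *ᵥ L b := by
    intro x b
    rw [hL, Fintype.linearCombination_apply, Fintype.linearCombination_apply,
      Matrix.mulVec_sum, ← Equiv.sum_comp (Equiv.mulLeft x)]
    refine Finset.sum_congr rfl fun z _ => ?_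
    simp [Matrix.mulVec_smul, Matrix.mulVec_mulVec]
  let cast : ZMod p →+* k := ZMod.castHom dvd_rfl k
  let Φ : (Q → ZMod p) →+ (Q → k) :=
    { toFun := fun c z => ∑ y, cast (c y) * a (y⁻¹ * z)
      map_zero' := by funext z; simp
      map_add' := fun c d => by funext z; simp [add_mul, Finset.sum_add_distrib] }
  set A := Φ.range
  have hinv : ∀ (x : Q), ∀ b ∈ A, (fun z => b (x⁻¹ * z)) ∈ A := by
    rintro x _ ⟨c, rfl⟩
    refine ⟨fun y => c (x⁻¹ * y), ?_⟩
    funext z
    show ∑ y, cast (c (x⁻¹ * y)) * a (y⁻¹ * z) = ∑ y, cast (c y) * a (y⁻¹ * (x⁻¹ * z))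
    rw [← Equiv.sum_comp (Equiv.mulLeft x)]
    refine Finset.sum_congr rfl fun y _ => ?_
    simp [mul_assoc]
  letI : MulAction Q A :=
    { smul := fun x b => ⟨fun z => b.1 (x⁻¹ * z), hinv x b.1 b.2⟩
      one_smul := fun b => Subtype.ext (funext fun z => by
        show b.1 ((1 : Q)⁻¹ * z) = b.1 z
        simp)
      mul_smul := fun x y b => Subtype.ext (funext fun z => by
        show b.1 ((x * y)⁻¹ * z) = b.1 (y⁻¹ * (x⁻¹ * z))
        simp [mul_assoc]) }
  haveI : Finite A := Finite.of_surjective Φ.rangeRestrict Φ.rangeRestrict_surjective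
  have haA : a ∈ A := ⟨Pi.single 1 1, by
    funext z
    show ∑ y, cast ((Pi.single (1 : Q) (1 : ZMod p) : Q → ZMod p) y) * a (y⁻¹ * z) = a z
    rw [Finset.sum_eq_single 1 (fun y _ hy => by simp [hy]) (by simp)]
    simp⟩
  have hdvd : p ∣ Nat.card A := by
    have h : addOrderOf (⟨a, haA⟩ : A) = p := addOrderOf_eq_prime
      (Subtype.ext (funext fun z => by simp [nsmul_eq_mul]))
      (fun h => ha0 (congrArg Subtype.val h))
    exact h ▸ addOrderOf_dvd_natCard _
  have h0 : (0 : A) ∈ MulAction.fixedPoints Q A := fun x => Subtype.ext rfl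
  obtain ⟨b, hb, hb0⟩ := hQ.exists_fixed_point_of_prime_dvd_card_of_fixed_point A hdvd h0
  have hconst : ∀ z, b.1 z = b.1 1 := fun z => by
    have := congrFun (congrArg Subtype.val (hb z)) z
    exact (this.symm.trans (by show b.1 (z⁻¹ * z) = b.1 1; rw [inv_mul_cancel]))
  have hb1 : b.1 1 ≠ 0 := fun h => hb0 (Subtype.ext (funext fun z => by
    show (0 : k) = b.1 z
    rw [hconst, h]))
  have hLA : L b.1 = 0 := by
    obtain ⟨c, hc⟩ := b.2
    rw [← hc, show Φ c = ∑ y, cast (c y) • (fun z => a (y⁻¹ * z)) from by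
      funext z; simp [Φ, Finset.sum_apply], map_sum]
    refine Finset.sum_eq_zero fun y _ => ?_
    rw [map_smul, hLτ, ha, Matrix.mulVec_zero, smul_zero]
  rw [hL, Fintype.linearCombination_apply,
    Finset.sum_congr rfl (fun z _ => by rw [hconst z] :
      ∀ z ∈ (Finset.univ : Finset Q), b.1 z • (R z *ᵥ w) = b.1 1 • (R z *ᵥ w)),
    ← Finset.smul_sum, smul_eq_zero] at hLA
  exact hLA.resolve_left hb1

end Trace

section Residue

variable {G : Type*} [Group G] [Finite G] {p : ℕ} [hp : Fact p.Prime]

open MulAction in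
/-- The free orbits of `P` on the cosets of its normalizer contribute nothing modulo `p`. -/
theorem eq_zero_of_sum_cosets {k : Type*} [Field k] [CharP k p] {n : Type*} [Fintype n]
    [DecidableEq n] (P : Sylow p G)
    (hTI : ∀ g : G, g ∉ Subgroup.normalizer ((P : Subgroup G) : Set G) →
      (P : Subgroup G) ⊓ (MulAut.conj g • (P : Subgroup G)) = ⊥)
    (R : G →* Matrix n n k) (hn : Fintype.card n < Nat.card (P : Subgroup G)) (v : n → k)
    [Fintype (G ⧸ Subgroup.normalizer ((P : Subgroup G) : Set G))]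
    (hv : ∀ h ∈ Subgroup.normalizer ((P : Subgroup G) : Set G), R h *ᵥ v = v)
    (hsum : ∑ q : G ⧸ Subgroup.normalizer ((P : Subgroup G) : Set G), R q.out *ᵥ v = 0) :
    v = 0 := by
  classical
  haveI : Fintype G := Fintype.ofFinite G
  set N := Subgroup.normalizer ((P : Subgroup G) : Set G) with hN
  let f : G ⧸ N → n → k := fun q => R q.out *ᵥ v
  have hf : ∀ g : G, f (g : G ⧸ N) = R g *ᵥ v := fun g => by
    obtain ⟨h, hh⟩ := QuotientGroup.mk_out_eq_mul N g
    show R (Quotient.out (QuotientGroup.mk g : G ⧸ N)) *ᵥ v = _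
    rw [hh, map_mul, ← Matrix.mulVec_mulVec, hv _ h.2]
  have hfs : ∀ (x : (P : Subgroup G)) (q : G ⧸ N), f (x • q) = R x *ᵥ f q := fun x q => by
    induction q using Quotient.inductionOn with
    | h g =>
      show f ((x : G) * g : G) = R x *ᵥ f (g : G ⧸ N)
      rw [hf, hf, map_mul, Matrix.mulVec_mulVec]
  -- the stabilizers
  have hfree : ∀ (q : G ⧸ N), q ≠ ((1 : G) : G ⧸ N) →
      ∀ x : (P : Subgroup G), x • q = q → x = 1 := by
    intro q
    induction q using Quotient.inductionOn with
    | h g =>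
      intro hq x hx
      have hgN : g ∉ N := fun hg => hq (QuotientGroup.eq.mpr (by
        rw [mul_one]; exact N.inv_mem hg))
      have hx' : g⁻¹ * (x : G) * g ∈ N := by
        have := QuotientGroup.eq.mp (hx.symm : ((g : G) : G ⧸ N) = (((x : G) * g : G) : G ⧸ N))
        simpa [mul_assoc] using this
      have hQ : IsPGroup p (Subgroup.zpowers (g⁻¹ * (x : G) * g)) := by
        obtain ⟨j, hj⟩ := P.2 x
        refine IsPGroup.of_card_dvd_pow (n := j) ?_
        rw [Nat.card_zpowers, orderOf_dvd_iff_pow_eq_one,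
          show g⁻¹ * (x : G) * g = g⁻¹ * (x : G) * (g⁻¹)⁻¹ by rw [inv_inv], conj_pow]
        have : (x : G) ^ p ^ j = 1 := by exact_mod_cast congrArg Subtype.val hj
        simp [this]
      have hxP : g⁻¹ * (x : G) * g ∈ (P : Subgroup G) := by
        have h := hQ.inf_normalizer_sylow P
        have : g⁻¹ * (x : G) * g ∈ Subgroup.zpowers (g⁻¹ * (x : G) * g) ⊓ N :=
          ⟨Subgroup.mem_zpowers _, hx'⟩
        exact (h.le this).2
      have : (x : G) ∈ (P : Subgroup G) ⊓ (MulAut.conj g • (P : Subgroup G)) := by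
        refine ⟨x.2, ?_⟩
        show (x : G) ∈ MulAut.conj g • (P : Subgroup G)
        rw [Subgroup.mem_pointwise_smul_iff_inv_smul_mem, ← map_inv, MulAut.smul_def,
          MulAut.conj_apply, inv_inv]
        exact hxP
      rw [hTI g hgN, Subgroup.mem_bot] at this
      exact Subtype.ext this
  -- the orbit sums
  set q₀ : G ⧸ N := ((1 : G) : G ⧸ N)
  have hfix : ∀ x : (P : Subgroup G), x • q₀ = q₀ := fun x => QuotientGroup.eq.mpr (by
    show (((x : G) * 1))⁻¹ * 1 ∈ N
    rw [mul_one, mul_one]
    exact N.inv_mem (Subgroup.le_normalizer x.2))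
  have hsum' : ∑ q, f q = f q₀ := by
    rw [← Equiv.sum_comp (selfEquivSigmaOrbits (P : Subgroup G) (G ⧸ N)).symm, Fintype.sum_sigma,
      Finset.sum_eq_single (Quotient.mk'' q₀ : orbitRel.Quotient (P : Subgroup G) (G ⧸ N))]
    · set r := Quotient.out (Quotient.mk'' q₀ : orbitRel.Quotient (P : Subgroup G) (G ⧸ N))
      have hr : r = q₀ := by
        obtain ⟨x, hx⟩ := mem_orbit_iff.mp (Quotient.exact' (Quotient.out_eq'
          (Quotient.mk'' q₀ : orbitRel.Quotient (P : Subgroup G) (G ⧸ N))) : r ∈ orbit _ q₀)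
        exact hx.symm.trans (hfix x)
      have hmem : ∀ y ∈ orbit (P : Subgroup G) r, y = q₀ := fun y hy => by
        obtain ⟨z, rfl⟩ := mem_orbit_iff.mp hy
        rw [hr, hfix]
      rw [Fintype.sum_eq_single (⟨r, mem_orbit_self r⟩ : orbit (P : Subgroup G) r)
        (fun y hy => absurd (Subtype.ext ((hmem _ y.2).trans hr.symm)) hy)]
      exact congrArg f hr
    · intro ω _ hω
      have hne : ω.out ≠ q₀ := fun h => hω (by rw [← h]; exact (Quotient.out_eq' ω).symm)
      calc ∑ y : orbit (P : Subgroup G) ω.out,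
            f ((selfEquivSigmaOrbits (P : Subgroup G) (G ⧸ N)).symm ⟨ω, y⟩)
          = ∑ x : (P : Subgroup G), (R.comp (P : Subgroup G).subtype) x *ᵥ f ω.out := by
            refine (Fintype.sum_bijective (fun x => ⟨x • ω.out, mem_orbit _ x⟩) ?_ _ _
              (fun x => (hfs x ω.out).symm)).symm
            refine ⟨fun x y hxy => ?_, fun y => ?_⟩
            · have := congrArg Subtype.val hxy
              exact (inv_mul_eq_one.mp (hfree _ hne (y⁻¹ * x) (by
                rw [mul_smul, show x • ω.out = y • ω.out from this, inv_smul_smul]))).symm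
            · obtain ⟨x, hx⟩ := mem_orbit_iff.mp y.2
              exact ⟨x, Subtype.ext hx⟩
        _ = 0 := sum_mulVec_eq_zero P.2 _ hn _
    · simp
  have : f q₀ = v := by rw [hf, map_one, Matrix.one_mulVec]
  rw [← this, ← hsum']
  convert hsum

end Residue

section Lift

variable {G : Type*} [Group G] [Finite G] {p : ℕ} [hp : Fact p.Prime]
  {W : Type*} [AddCommGroup W] [Module ℂ W] [FiniteDimensional ℂ W]

/-- A vector of a representation of dimension less than the order of a TI Sylow subgroup whose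
sum over the group vanishes is zero if the normalizer of the Sylow subgroup fixes it. -/
theorem eq_zero_of_fixed [Fintype G] (P : Sylow p G)
    (hTI : ∀ g : G, g ∉ Subgroup.normalizer ((P : Subgroup G) : Set G) →
      (P : Subgroup G) ⊓ (MulAut.conj g • (P : Subgroup G)) = ⊥)
    (ρ : Representation ℂ G W) (hW : Module.finrank ℂ W < Nat.card (P : Subgroup G))
    (v : W) (hv : ∀ h ∈ Subgroup.normalizer ((P : Subgroup G) : Set G), ρ h v = v)
    (hsum : ∑ g : G, ρ g v = 0) : v = 0 := by
  classical
  obtain ⟨M, hM⟩ := Blocks.exists_isPModular hp.out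
  have := Blocks.isPrime_of_isPModular hM
  obtain ⟨V, -, hI⟩ := Blocks.ValRed.exists_valuation M
  haveI := Blocks.PrimeDefect.charP_residue hM hI
  obtain ⟨ι, hι, hι', b, hb⟩ := Blocks.ValRed.exists_integral_basis V ρ
  by_contra hv0
  set c : ι → ℂ := fun i => b.repr v i with hc
  have hc0 : ∃ i, c i ≠ 0 := by
    by_contra h
    push_neg at h
    exact hv0 (b.repr.injective (Finsupp.ext fun i => by simpa [hc] using h i))
  obtain ⟨i₁, hi₁⟩ := hc0
  haveI : Nonempty ι := ⟨i₁⟩
  obtain ⟨i₀, hi₀⟩ := Finite.exists_max (fun i => V.valuation (c i))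
  have hci : c i₀ ≠ 0 := fun h => hi₁ (by
    have := hi₀ i₁
    rwa [h, map_zero, le_zero_iff, map_eq_zero] at this)
  have hmem : ∀ i, c i / c i₀ ∈ V := fun i => by
    rw [← V.valuation_le_one_iff, map_div₀]
    exact div_le_one_of_le₀ (hi₀ i) zero_le'
  let u : ι → V := fun i => ⟨c i / c i₀, hmem i⟩
  let RV : G →* Matrix ι ι V :=
    { toFun := fun g => Matrix.of fun i j => ⟨_, hb g i j⟩
      map_one' := by
        ext i j
        simp [Matrix.one_apply]
        split_ifs <;> simp
      map_mul' := fun g h => by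
        ext i j
        simp [LinearMap.toMatrix_mul, Matrix.mul_apply] }
  let red := IsLocalRing.residue V
  let RB : G →* Matrix ι ι (IsLocalRing.ResidueField V) := red.mapMatrix.toMonoidHom.comp RV
  set N := Subgroup.normalizer ((P : Subgroup G) : Set G)
  haveI : Fintype (G ⧸ N) := Fintype.ofFinite _
  have hcoord : ∀ (g : G) (i : ι), (((RV g *ᵥ u) i : V) : ℂ) = b.repr (ρ g v) i / c i₀ := by
    intro g i
    have h1 : b.repr (ρ g v) = LinearMap.toMatrix b b (ρ g) *ᵥ b.repr v :=
      (LinearMap.toMatrix_mulVec_repr b b (ρ g) v).symm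
    rw [congrFun h1 i, Matrix.mulVec, Matrix.mulVec, dotProduct, dotProduct, Finset.sum_div]
    push_cast
    exact Finset.sum_congr rfl fun j _ => (mul_div_assoc _ _ _).symm
  have hcard : Fintype.card ι < Nat.card (P : Subgroup G) := by
    rwa [← Module.finrank_eq_card_basis b]
  have hqsum : ∑ q : G ⧸ N, ρ q.out v = 0 := by
    have h : ∑ g : G, ρ g v = (Nat.card N) • ∑ q : G ⧸ N, ρ q.out v := by
      rw [← Finset.sum_fiberwise (Finset.univ : Finset G) (fun g : G => (g : G ⧸ N))
        (fun g => ρ g v), Finset.smul_sum]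
      refine Finset.sum_congr rfl fun q _ => ?_
      have hc : ∀ g ∈ Finset.univ.filter (fun g : G => (g : G ⧸ N) = q), ρ g v = ρ q.out v := by
        intro g hg
        have hq : ((q.out : G) : G ⧸ N) = (g : G ⧸ N) := by
          rw [(Finset.mem_filter.mp hg).2]; exact QuotientGroup.out_eq' q
        have hm : (q.out)⁻¹ * g ∈ N := QuotientGroup.eq.mp hq
        conv_lhs => rw [show g = q.out * ((q.out)⁻¹ * g) from (mul_inv_cancel_left _ _).symm,
          map_mul, Module.End.mul_apply, hv _ hm]
      rw [Finset.sum_congr rfl hc, Finset.sum_const]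
      congr 1
      rw [← Nat.card_eq_finsetCard]
      refine Nat.card_congr
        { toFun := fun g => ⟨(q.out)⁻¹ * (g : G), QuotientGroup.eq.mp (by
            rw [(Finset.mem_filter.mp g.2).2]; exact QuotientGroup.out_eq' q)⟩
          invFun := fun h => ⟨q.out * (h : G), Finset.mem_filter.mpr ⟨Finset.mem_univ _, by
            rw [QuotientGroup.mk_mul_of_mem _ h.2, QuotientGroup.out_eq']⟩⟩
          left_inv := fun g => Subtype.ext (mul_inv_cancel_left _ _)
          right_inv := fun h => Subtype.ext (inv_mul_cancel_left _ _) }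
    rw [hsum, ← Nat.cast_smul_eq_nsmul ℂ, eq_comm, smul_eq_zero] at h
    exact h.resolve_left (Nat.cast_ne_zero.mpr Nat.card_pos.ne')
  have hfixu : ∀ h ∈ N, RV h *ᵥ u = u := fun h hh => funext fun i => Subtype.ext (by
    rw [hcoord, hv h hh])
  have hsumu : ∑ q : G ⧸ N, RV q.out *ᵥ u = 0 := funext fun i => Subtype.ext (by
    rw [Finset.sum_apply]
    push_cast
    simp only [hcoord]
    rw [← Finset.sum_div, ← Finset.sum_apply', ← map_sum, hqsum]
    simp)
  have hres : ∀ g, RB g *ᵥ (red ∘ u) = red ∘ (RV g *ᵥ u) := fun g => funext fun i =>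
    (RingHom.map_mulVec red (RV g) u i).symm
  have h0 := eq_zero_of_sum_cosets (k := IsLocalRing.ResidueField V) P hTI RB hcard (red ∘ u)
    (fun h hh => by rw [hres, hfixu h hh])
    (funext fun i => by
      rw [Finset.sum_apply]
      simp only [hres, Function.comp_apply]
      rw [← map_sum, ← Finset.sum_apply, hsumu]
      simp)
  have h1 : u i₀ = 1 := Subtype.ext (div_self hci)
  have := congrFun h0 i₀
  simp [h1] at this

end Lift

end CfsgLib.TI.SmallFixed
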